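import Cfsg.Agent.Lib.LocalEven.IsolatedSylow.Setting
import Cfsg.Agent.Lib.Fusion.SmallClassPow

/-!
The two Blackburn families have a power map onto `⟨x⟩`.
-/

set_option autoImplicit false
set_option linter.style.haveILetI false

namespace Cfsg.Agent.LocalEven.IsolatedSylow

open Cfsg Cfsg.Agent.Fusion
open scoped commutatorElement

universe u

variable {R : Type u} [Group R]

theorem comm_mem_of_gen {S : Set R} (hS : Subgroup.closure S = ⊤) (N : Subgroup R) [N.Normal]
    (h : ∀ a ∈ S, ∀ b ∈ S, ⁅a, b⁆ ∈ N) (a b : R) : ⁅a, b⁆ ∈ N := by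
  let q := QuotientGroup.mk' N
  have key : ∀ u ∈ Subgroup.closure (q '' S), ∀ v ∈ Subgroup.closure (q '' S), u * v = v * u := by
    haveI := Subgroup.isMulCommutative_closure (k := q '' S) (by
      rintro _ ⟨u, hu, rfl⟩ _ ⟨v, hv, rfl⟩
      rw [← commutatorElement_eq_one_iff_mul_comm, ← map_commutatorElement]
      exact (QuotientGroup.eq_one_iff _).2 (h u hu v hv))
    intro u hu v hv
    exact congrArg Subtype.val
      ((inferInstance : IsMulCommutative (Subgroup.closure (q '' S))).1.comm ⟨u, hu⟩ ⟨v, hv⟩)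
  have hm : ∀ u : R, q u ∈ Subgroup.closure (q '' S) := fun u => by
    rw [← MonoidHom.map_closure, hS]; exact Subgroup.mem_map_of_mem q (Subgroup.mem_top u)
  refine (QuotientGroup.eq_one_iff _).1 ?_
  show q ⁅a, b⁆ = 1
  rw [map_commutatorElement]
  exact commutatorElement_eq_one_iff_mul_comm.2 (key _ (hm a) _ (hm b))

theorem mem_center_of_gen {S : Set R} (hS : Subgroup.closure S = ⊤) {w : R} (h : ∀ a ∈ S, a * w = w * a) :
    w ∈ Subgroup.center R := by
  refine Subgroup.mem_center_iff.2 fun g => ?_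
  have : g ∈ Subgroup.centralizer ({w} : Set R) :=
    ((Subgroup.closure_le _).2 fun a ha => Subgroup.mem_centralizer_singleton_iff.2 (h a ha)) (hS ▸ Subgroup.mem_top g)
  exact Subgroup.mem_centralizer_singleton_iff.1 this

theorem zpowers_normal_of_center {w : R} (h : w ∈ Subgroup.center R) : (Subgroup.zpowers w).Normal :=
  ⟨fun n hn g => by
    rwa [Subgroup.mem_center_iff.1 ((Subgroup.zpowers_le.2 h) hn) g, mul_inv_cancel_right]⟩

variable [Finite R] {p : ℕ} [hp : Fact p.Prime]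

theorem card_sup_le (A B : Subgroup R) [B.Normal] : Nat.card ↥(A ⊔ B) ≤ Nat.card A * Nat.card B := by
  rw [← Nat.card_prod]
  refine Nat.card_le_card_of_surjective (fun v : A × B => (⟨v.1 * v.2, mul_mem (Subgroup.mem_sup_left v.1.2)
    (Subgroup.mem_sup_right v.2.2)⟩ : ↥(A ⊔ B))) ?_
  rintro ⟨g, hg⟩
  obtain ⟨a, ha, b, hb, rfl⟩ := Subgroup.mem_sup_of_normal_right.1 hg
  exact ⟨(⟨a, ha⟩, ⟨b, hb⟩), rfl⟩

theorem card_zpowers_le {a : R} {m : ℕ} (hm : m ≠ 0) (h : a ^ m = 1) : Nat.card (Subgroup.zpowers a) ≤ m := by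
  rw [Nat.card_zpowers]
  exact Nat.le_of_dvd (Nat.pos_of_ne_zero hm) (orderOf_dvd_of_pow_eq_one h)

/-- The `p`-th power map modulo the last term, in class three with derived subgroup of exponent `p`. -/
theorem mul_pow_mod (hp2 : p ≠ 2) (D W : Subgroup R) (hD : ∀ a b : R, ⁅a, b⁆ ∈ D) (hDe : ∀ d ∈ D, d ^ p = 1)
    (hW : W ≤ Subgroup.center R) (hDW : ∀ d ∈ D, ∀ g : R, ⁅d, g⁆ ∈ W) (a b : R) :
    ∃ c ∈ W, (a * b) ^ p = a ^ p * b ^ p * c ∧
      ((3 < p ∨ ∀ d ∈ D, ∀ g : R, ⁅d, g⁆ = 1) → c = 1) := by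
  obtain ⟨u, hu⟩ : ∃ u, u = ⁅b⁻¹, a⁻¹⁆ := ⟨_, rfl⟩
  have huD : u ∈ D := hu ▸ hD _ _
  obtain ⟨r, hr⟩ : ∃ r, r = ⁅u⁻¹, a⁻¹⁆ := ⟨_, rfl⟩
  obtain ⟨s, hs⟩ : ∃ s, s = ⁅u⁻¹, b⁻¹⁆ := ⟨_, rfl⟩
  have hrW : r ∈ W := hr ▸ hDW _ (inv_mem huD) _
  have hsW : s ∈ W := hs ▸ hDW _ (inv_mem huD) _
  have h1 : b * a = a * b * u := by rw [hu]; simp only [commutatorElement_def]; group
  have h2 : u * a = a * u * r := by rw [hr]; simp only [commutatorElement_def]; group
  have h3 : u * b = b * u * s := by rw [hs]; simp only [commutatorElement_def]; group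
  have key := mul_pow_class_three h1 h2 h3 (fun g => (Subgroup.mem_center_iff.1 (hW hrW) g).symm)
    (fun g => (Subgroup.mem_center_iff.1 (hW hsW) g).symm) p
  have hC2 : p ∣ p.choose 2 :=
    hp.out.dvd_choose_self (by omega) (lt_of_le_of_ne hp.out.two_le (Ne.symm hp2))
  have hu2 : u ^ p.choose 2 = 1 := by
    obtain ⟨k, hk⟩ := hC2
    rw [hk, pow_mul, hDe u huD, one_pow]
  rw [hu2, mul_one] at key
  refine ⟨r ^ p.choose 3 * s ^ (2 * p.choose 3 + p.choose 2), mul_mem (pow_mem hrW _) (pow_mem hsW _),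
    by rw [key, mul_assoc], ?_⟩
  rintro (h3p | hz)
  · have hrp : r ^ p = 1 := hDe r (hr ▸ hD _ _)
    have hsp : s ^ p = 1 := hDe s (hs ▸ hD _ _)
    obtain ⟨m, hm⟩ := hp.out.dvd_choose_self (k := 3) (by omega) h3p
    obtain ⟨k, hk⟩ := hC2
    rw [hm, hk, show 2 * (p * m) + p * k = p * (2 * m + k) by ring, pow_mul, pow_mul, hrp, hsp, one_pow, one_pow,
      one_mul]
  · rw [show r = 1 from hr ▸ hz _ (inv_mem huD) _, show s = 1 from hs ▸ hz _ (inv_mem huD) _, one_pow, one_pow,
      one_mul]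

/-- In the second family the `p ^ (n - 3)`-th power is nontrivial. -/
theorem familyG_ne_one {n : ℕ} (hn : 4 ≤ n) (hc : Nat.card R = p ^ n) {s : ℕ} {a b z : R}
    (hgen : Subgroup.closure ({a, b, z} : Set R) = ⊤) (ha : a ^ p = 1) (hb : b ^ p = 1) (hbz : b * z = z * b)
    (hab : a⁻¹ * b * a = b * z ^ (s * p ^ (n - 3))) (haz : a⁻¹ * z * a = b * z) : z ^ p ^ (n - 3) ≠ 1 := by
  intro hw0
  rw [mul_comm s, pow_mul, hw0, one_pow, mul_one] at hab
  have hab' : a * b = b * a := by
    calc a * b = a * (a⁻¹ * b * a) := by rw [hab]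
      _ = b * a := by group
  have hbc : b ∈ Subgroup.center R := mem_center_of_gen hgen fun g hg => by
    rcases hg with rfl | rfl | rfl
    · exact hab'
    · rfl
    · exact hbz.symm
  haveI := zpowers_normal_of_center hbc
  haveI hBn : (Subgroup.zpowers z ⊔ Subgroup.zpowers b).Normal := by
    refine ⟨fun d hd g => ?_⟩
    have hN : Subgroup.closure ({a, b, z} : Set R) ≤
        Subgroup.normalizer ((Subgroup.zpowers z ⊔ Subgroup.zpowers b : Subgroup R) : Set R) := by
      refine (Subgroup.closure_le _).2 ?_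
      have hmz : ∀ i : ℤ, a⁻¹ * z ^ i * a ∈ Subgroup.zpowers z ⊔ Subgroup.zpowers b := fun i => by
        have : a⁻¹ * z ^ i * a = (b * z) ^ i := by
          rw [← haz]
          simpa using (conj_zpow (a := a⁻¹) (b := z) (i := i)).symm
        rw [this]
        exact zpow_mem (mul_mem (Subgroup.mem_sup_right (Subgroup.mem_zpowers b))
          (Subgroup.mem_sup_left (Subgroup.mem_zpowers z))) i
      rintro g (rfl | rfl | rfl)
      · have h1 : g⁻¹ ∈ Subgroup.normalizer ((Subgroup.zpowers z ⊔ Subgroup.zpowers b : Subgroup R) : Set R) := by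
          refine Local.FS.mem_normalizer_of_conj_mem le_rfl fun y hy => ?_
          obtain ⟨u, hu, v, hv, rfl⟩ := Subgroup.mem_sup_of_normal_right.1 hy
          obtain ⟨i, rfl⟩ := hu
          rw [inv_inv, show g⁻¹ * (z ^ i * v) * g = g⁻¹ * z ^ i * g * (g⁻¹ * v * g) by group]
          refine mul_mem (hmz i) (Subgroup.mem_sup_right ?_)
          have := (inferInstance : (Subgroup.zpowers b).Normal).conj_mem v hv g⁻¹
          rwa [inv_inv] at this
        simpa using inv_mem h1
      · exact Subgroup.le_normalizer (Subgroup.mem_sup_right (Subgroup.mem_zpowers _))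
      · exact Subgroup.le_normalizer (Subgroup.mem_sup_left (Subgroup.mem_zpowers _))
    exact (Subgroup.mem_normalizer_iff.1 (hN (hgen ▸ Subgroup.mem_top g)) d).1 hd
  have htop : (⊤ : Subgroup R) ≤ Subgroup.zpowers a ⊔ (Subgroup.zpowers z ⊔ Subgroup.zpowers b) := by
    rw [← hgen, Subgroup.closure_le]
    rintro g (rfl | rfl | rfl)
    · exact Subgroup.mem_sup_left (Subgroup.mem_zpowers _)
    · exact Subgroup.mem_sup_right (Subgroup.mem_sup_right (Subgroup.mem_zpowers _))
    · exact Subgroup.mem_sup_right (Subgroup.mem_sup_left (Subgroup.mem_zpowers _))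
  have hle := (Subgroup.card_le_of_le htop).trans ((card_sup_le _ _).trans
    (Nat.mul_le_mul (card_zpowers_le hp.out.ne_zero ha) ((card_sup_le _ _).trans
      (Nat.mul_le_mul (card_zpowers_le (pow_ne_zero _ hp.out.ne_zero) hw0)
        (card_zpowers_le hp.out.ne_zero hb)))))
  rw [Subgroup.card_top, hc, show p * (p ^ (n - 3) * p) = p ^ (n - 1) by
    rw [← pow_succ, ← pow_succ']; congr 1; omega] at hle
  exact absurd hle (not_le.2 (Nat.pow_lt_pow_right hp.out.one_lt (by omega)))

variable {K : Type u} [Group K] [Finite K] {P : Subgroup K} {x : K}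

theorem Setting.power_false_sub (h : Setting K p P x) (q : ℕ) {S : Set P} (hS : Subgroup.closure S = ⊤)
    (hmul : ∀ a b : P, (a * b) ^ q = a ^ q * b ^ q) (hq : ∀ a ∈ S, ((a : K) ^ q) ∈ Subgroup.zpowers x)
    (hne : ∃ a : P, a ^ q ≠ 1) : False := by
  have hall : ∀ v : P, ((v : K) ^ q) ∈ Subgroup.zpowers x := by
    intro v
    have hv : v ∈ Subgroup.closure S := hS ▸ Subgroup.mem_top v
    induction hv using Subgroup.closure_induction with
    | mem a ha => exact hq a ha
    | one => simp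
    | mul a b _ _ ha hb =>
      have := congrArg Subtype.val (hmul a b)
      simp only [SubmonoidClass.coe_pow, Subgroup.coe_mul] at this
      rw [Subgroup.coe_mul, this]
      exact mul_mem ha hb
    | inv a _ ha => rw [Subgroup.coe_inv, inv_pow]; exact inv_mem ha
  refine h.power_false q (fun y hy => hall ⟨y, hy⟩) (fun a ha b hb => ?_) ?_
  · have := congrArg Subtype.val (hmul ⟨a, ha⟩ ⟨b, hb⟩)
    simpa using this
  · obtain ⟨a, ha⟩ := hne
    exact ⟨a, a.2, fun e => ha (Subtype.ext (by simpa using e))⟩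

omit [Finite K] in
theorem Setting.rank_sub (h : Setting K p P x) (U : Subgroup P) : Cfsg.PRankLE p 2 U := fun A hA hAp => by
  haveI := hA
  have hle := h.rank (A.map ((P.subtype).comp U.subtype)) inferInstance (by
    rintro _ ⟨a, ha, rfl⟩
    rw [← map_pow, hAp a ha, map_one])
  have hinj : Function.Injective (P.subtype.comp U.subtype) := fun a b e =>
    U.subtype_injective (P.subtype_injective e)
  rwa [Subgroup.card_map_of_injective hinj] at hle

/-- In the central product family the `p ^ (n - 3)`-th power is nontrivial. -/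
theorem familyC_ne_one {n : ℕ} (hn : 4 ≤ n) (hc : Nat.card R = p ^ n) {a b z : R}
    (hgen : Subgroup.closure ({a, b, z} : Set R) = ⊤) (ha : a ^ p = 1) (hb : b ^ p = 1)
    (haz : a * z = z * a) (hbz : b * z = z * b) (hab : a⁻¹ * b * a = b * z ^ p ^ (n - 3)) :
    z ^ p ^ (n - 3) ≠ 1 := by
  intro hw
  rw [hw, mul_one] at hab
  have hab' : a * b = b * a := by
    calc a * b = a * (a⁻¹ * b * a) := by rw [hab]
      _ = b * a := by group
  have hcen : ∀ g ∈ ({a, b, z} : Set R), g ∈ Subgroup.center R := fun g hg =>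
    mem_center_of_gen hgen fun g' hg' => by
      rcases hg with rfl | rfl | rfl <;> rcases hg' with rfl | rfl | rfl <;>
        first | rfl | exact hab' | exact hab'.symm | exact haz | exact haz.symm | exact hbz | exact hbz.symm
  haveI := zpowers_normal_of_center (hcen b (by simp))
  haveI := zpowers_normal_of_center (hcen z (by simp))
  have htop : (⊤ : Subgroup R) ≤ (Subgroup.zpowers a ⊔ Subgroup.zpowers b) ⊔ Subgroup.zpowers z := by
    rw [← hgen, Subgroup.closure_le]
    rintro g (rfl | rfl | rfl)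
    · exact Subgroup.mem_sup_left (Subgroup.mem_sup_left (Subgroup.mem_zpowers _))
    · exact Subgroup.mem_sup_left (Subgroup.mem_sup_right (Subgroup.mem_zpowers _))
    · exact Subgroup.mem_sup_right (Subgroup.mem_zpowers _)
  have hle := (Subgroup.card_le_of_le htop).trans ((card_sup_le _ _).trans
    (Nat.mul_le_mul ((card_sup_le _ _).trans (Nat.mul_le_mul (card_zpowers_le hp.out.ne_zero ha)
      (card_zpowers_le hp.out.ne_zero hb))) (card_zpowers_le (pow_ne_zero _ hp.out.ne_zero) hw)))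
  rw [Subgroup.card_top, hc, show p * p * p ^ (n - 3) = p ^ (n - 1) by
    rw [← sq, ← pow_add]; congr 1; omega] at hle
  exact absurd hle (not_le.2 (Nat.pow_lt_pow_right hp.out.one_lt (by omega)))

/-- The central products do not occur. -/
theorem Setting.not_familyC (h : Setting K p P x) {n : ℕ} (hn : 4 ≤ n) (hc : Nat.card P = p ^ n) {a b z : P}
    (hgen : Subgroup.closure ({a, b, z} : Set P) = ⊤) (ha : a ^ p = 1) (hb : b ^ p = 1)
    (hz : z ^ p ^ (n - 2) = 1) (haz : a * z = z * a) (hbz : b * z = z * b)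
    (hab : a⁻¹ * b * a = b * z ^ p ^ (n - 3)) : False := by
  obtain ⟨j, hj⟩ : ∃ j, n - 3 = j + 1 := ⟨n - 4, by omega⟩
  have hw1 := familyC_ne_one hn hc hgen ha hb haz hbz hab
  obtain ⟨w, hw⟩ : ∃ w, w = z ^ p ^ (n - 3) := ⟨_, rfl⟩
  rw [← hw] at hab hw1
  have hwz : w ∈ Subgroup.center P := mem_center_of_gen hgen fun g hg => by
    rw [hw]
    rcases hg with rfl | rfl | rfl
    · exact ((show Commute g z from haz).pow_right _).eq
    · exact ((show Commute g z from hbz).pow_right _).eq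
    · exact ((Commute.refl g).pow_right _).eq
  haveI := zpowers_normal_of_center hwz
  have hwp : w ^ p = 1 := by
    rw [hw, ← pow_mul, ← pow_succ, show n - 3 + 1 = n - 2 by omega, hz]
  have hcab : ⁅a⁻¹, b⁆ = b * w * b⁻¹ := by rw [← hab, commutatorElement_def, inv_inv]
  have hcomm : ∀ u v : P, ⁅u, v⁆ ∈ Subgroup.zpowers w := by
    have hab2 : ⁅a, b⁆ ∈ Subgroup.zpowers w := by
      have e : ⁅a, b⁆ = a * (⁅a⁻¹, b⁆)⁻¹ * a⁻¹ := by simp only [commutatorElement_def]; group
      rw [e, hcab]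
      exact (inferInstance : (Subgroup.zpowers w).Normal).conj_mem _
        (inv_mem ((inferInstance : (Subgroup.zpowers w).Normal).conj_mem _ (Subgroup.mem_zpowers w) b)) a
    refine comm_mem_of_gen hgen _ fun u hu v hv => ?_
    rcases hu with rfl | rfl | rfl <;> rcases hv with rfl | rfl | rfl
    all_goals
      first
      | (rw [commutatorElement_self]; exact one_mem _)
      | exact hab2
      | (rw [← commutatorElement_inv]; exact inv_mem hab2)
      | (rw [commutatorElement_eq_one_iff_mul_comm.2 haz]; exact one_mem _)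
      | (rw [commutatorElement_eq_one_iff_mul_comm.2 haz.symm]; exact one_mem _)
      | (rw [commutatorElement_eq_one_iff_mul_comm.2 hbz]; exact one_mem _)
      | (rw [commutatorElement_eq_one_iff_mul_comm.2 hbz.symm]; exact one_mem _)
  have hexp : ∀ d ∈ Subgroup.zpowers w, d ^ p = 1 := by
    rintro _ ⟨k, rfl⟩
    rw [← zpow_natCast, ← zpow_mul, mul_comm, zpow_mul, zpow_natCast, hwp, one_zpow]
  have htriv : ∀ d ∈ Subgroup.zpowers w, ∀ g : P, ⁅d, g⁆ = 1 := fun d hd g =>
    commutatorElement_eq_one_iff_mul_comm.2 (Subgroup.mem_center_iff.1 (Subgroup.zpowers_le.2 hwz hd) g).symm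
  have hstep : ∀ u v : P, (u * v) ^ p = u ^ p * v ^ p := by
    intro u v
    obtain ⟨c, -, hc', hc1⟩ := mul_pow_mod h.hp2 _ _ hcomm hexp (Subgroup.zpowers_le.2 hwz)
      (fun d hd g => htriv d hd g ▸ one_mem _) u v
    rw [hc', hc1 (Or.inr htriv), mul_one]
  have hpow : ∀ (k : ℕ) (u v : P), (u * v) ^ p ^ k = u ^ p ^ k * v ^ p ^ k := by
    intro k
    induction k with
    | zero => simp
    | succ k ih => intro u v; rw [pow_succ, pow_mul, pow_mul, pow_mul, ih, hstep]
  refine h.power_false_sub (p ^ (n - 3)) hgen (hpow _) (fun g hg => ?_) ⟨z, hw ▸ hw1⟩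
  rcases hg with rfl | rfl | rfl
  · rw [hj, pow_succ', pow_mul, ← Subgroup.coe_pow, ha]; simp
  · rw [hj, pow_succ', pow_mul, ← Subgroup.coe_pow, hb]; simp
  · rw [← Subgroup.coe_pow, ← hw]
    refine h.mem_zpowers_of_commute a.2 b.2 w.2 (by rw [← Subgroup.coe_pow, ha]; rfl) (fun e => hw1 ?_)
      (by rw [← Subgroup.coe_pow, hwp]; rfl) ?_ ?_
    · have e' : a * b = b * a := Subtype.ext e
      have h2 : b * w = b := by rw [← hab, mul_assoc, ← e', inv_mul_cancel_left]
      exact mul_eq_left.1 h2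
    · exact congrArg Subtype.val (Subgroup.mem_center_iff.1 hwz a).symm
    · exact congrArg Subtype.val (Subgroup.mem_center_iff.1 hwz b).symm

/-- The second family does not occur, apart from the group of order `81`. -/
theorem Setting.not_familyG (h : Setting K p P x) {n : ℕ} (hn : 4 ≤ n) (hn4 : n = 4 → 3 < p)
    (hc : Nat.card P = p ^ n) {s : ℕ} (hs : s = 1 ∨ ¬ IsSquare (s : ZMod p)) {a b z : P}
    (hgen : Subgroup.closure ({a, b, z} : Set P) = ⊤) (ha : a ^ p = 1) (hb : b ^ p = 1)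
    (hz : z ^ p ^ (n - 2) = 1) (hbz : b * z = z * b)
    (hab : a⁻¹ * b * a = b * z ^ (s * p ^ (n - 3))) (haz : a⁻¹ * z * a = b * z) : False := by
  obtain ⟨j, hj⟩ : ∃ j, n - 3 = j + 1 := ⟨n - 4, by omega⟩
  have hs0 : ¬ p ∣ s := by
    intro hd
    rcases hs with rfl | hs
    · exact hp.out.not_dvd_one hd
    · exact hs ⟨0, by rw [(ZMod.natCast_eq_zero_iff s p).2 hd, mul_zero]⟩
  obtain ⟨w, hw⟩ : ∃ w, w = z ^ p ^ (n - 3) := ⟨_, rfl⟩
  rw [mul_comm s, pow_mul, ← hw] at hab
  have hwp : w ^ p = 1 := by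
    rw [hw, ← pow_mul, ← pow_succ, show n - 3 + 1 = n - 2 by omega, hz]
  have hbz' : Commute b z := hbz
  have hazk : ∀ k : ℕ, a⁻¹ * z ^ k * a = b ^ k * z ^ k := by
    intro k
    rw [← hbz'.mul_pow, ← haz]
    simpa using (conj_pow (a := a⁻¹) (b := z) (i := k)).symm
  have hzp : z ^ p ∈ Subgroup.center P := mem_center_of_gen hgen fun g hg => by
    rcases hg with rfl | rfl | rfl
    · have e := hazk p
      rw [hb, one_mul] at e
      calc g * z ^ p = g * (g⁻¹ * z ^ p * g) := by rw [e]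
        _ = z ^ p * g := by group
    · exact (hbz'.pow_right _).eq
    · exact ((Commute.refl g).pow_right _).eq
  have hwzp : w ∈ Subgroup.zpowers (z ^ p) := ⟨(p ^ j : ℕ), by
    show (z ^ p) ^ ((p ^ j : ℕ) : ℤ) = w
    rw [zpow_natCast, ← pow_mul, ← pow_succ', ← hj, hw]⟩
  have hwz : w ∈ Subgroup.center P := Subgroup.zpowers_le.2 hzp hwzp
  haveI := zpowers_normal_of_center hwz
  have hw1 : w ≠ 1 := hw ▸ familyG_ne_one hn hc hgen ha hb hbz (by rw [mul_comm s, pow_mul, ← hw]; exact hab) haz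
  have how : orderOf w = p := orderOf_eq_prime hwp hw1
  have hws : w ^ s ≠ 1 := fun e => hs0 (how ▸ orderOf_dvd_of_pow_eq_one e)
  -- the derived layer
  obtain ⟨D, hD⟩ : ∃ D : Subgroup P, D = Subgroup.zpowers w ⊔ Subgroup.zpowers b := ⟨_, rfl⟩
  have hwD : w ∈ D := hD ▸ Subgroup.mem_sup_left (Subgroup.mem_zpowers w)
  have hbD : b ∈ D := hD ▸ Subgroup.mem_sup_right (Subgroup.mem_zpowers b)
  have hWD : Subgroup.zpowers w ≤ D := Subgroup.zpowers_le.2 hwD
  -- `b` is central modulo `⟨w⟩`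
  have hbW : ∀ g : P, ⁅b, g⁆ ∈ Subgroup.zpowers w := by
    intro g
    let π := QuotientGroup.mk' (Subgroup.zpowers w)
    have hπw : π w = 1 := (QuotientGroup.eq_one_iff w).2 (Subgroup.mem_zpowers w)
    have hg : π g ∈ Subgroup.centralizer ({π b} : Set (P ⧸ Subgroup.zpowers w)) := by
      have hle : Subgroup.closure (π '' {a, b, z}) ≤ Subgroup.centralizer ({π b} : Set (P ⧸ Subgroup.zpowers w)) := by
        refine (Subgroup.closure_le _).2 ?_
        rintro _ ⟨v, rfl | rfl | rfl, rfl⟩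
        · refine Subgroup.mem_centralizer_singleton_iff.2 ?_
          have e := congrArg π hab
          simp only [map_mul, map_inv, map_pow, hπw, one_pow, mul_one] at e
          calc π v * π b = π v * ((π v)⁻¹ * π b * π v) := by rw [e]
            _ = π b * π v := by group
        · exact Subgroup.mem_centralizer_singleton_iff.2 rfl
        · exact Subgroup.mem_centralizer_singleton_iff.2 (by rw [← map_mul, ← map_mul, hbz])
      refine hle ?_
      rw [← MonoidHom.map_closure, hgen]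
      exact Subgroup.mem_map_of_mem π (Subgroup.mem_top g)
    refine (QuotientGroup.eq_one_iff _).1 ?_
    show π ⁅b, g⁆ = 1
    rw [map_commutatorElement]
    exact commutatorElement_eq_one_iff_mul_comm.2 (Subgroup.mem_centralizer_singleton_iff.1 hg).symm
  haveI hDn : D.Normal := ⟨fun d hd g => by
    rw [hD, sup_comm] at hd
    obtain ⟨u, hu, v, hv, rfl⟩ := Subgroup.mem_sup_of_normal_right.1 hd
    obtain ⟨i, rfl⟩ := hu
    rw [← conj_mul, ← conj_zpow]
    refine mul_mem (zpow_mem ?_ i) (hWD ((inferInstance : (Subgroup.zpowers w).Normal).conj_mem v hv g))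
    rw [show g * b * g⁻¹ = ⁅b, g⁆⁻¹ * b by simp only [commutatorElement_def]; group]
    exact mul_mem (inv_mem (hWD (hbW g))) hbD⟩
  have hcomm : ∀ u v : P, ⁅u, v⁆ ∈ D := by
    refine comm_mem_of_gen hgen _ fun u hu v hv => ?_
    have haz2 : ⁅z, a⁆ ∈ D := by
      rw [show ⁅z, a⁆ = a * (a⁻¹ * z * a * z⁻¹) * a⁻¹ by simp only [commutatorElement_def]; group, haz,
        mul_inv_cancel_right]
      exact hDn.conj_mem b hbD a
    have hab2 : ∀ g, ⁅b, g⁆ ∈ D := fun g => hWD (hbW g)
    rcases hu with rfl | rfl | rfl <;> rcases hv with rfl | rfl | rfl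
    all_goals
      first
      | (rw [commutatorElement_self]; exact one_mem _)
      | exact hab2 _
      | (rw [← commutatorElement_inv]; exact inv_mem (hab2 _))
      | exact haz2
      | (rw [← commutatorElement_inv]; exact inv_mem haz2)
  have hDe : ∀ d ∈ D, d ^ p = 1 := by
    intro d hd
    rw [hD, sup_comm] at hd
    obtain ⟨u, hu, v, hv, rfl⟩ := Subgroup.mem_sup_of_normal_right.1 hd
    obtain ⟨i, rfl⟩ := hu
    obtain ⟨k, rfl⟩ := hv
    rw [(show Commute (b ^ i) (w ^ k) from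
      (show Commute b w from Subgroup.mem_center_iff.1 hwz b).zpow_zpow i k).mul_pow, ← zpow_natCast, ← zpow_mul,
      ← zpow_natCast (w ^ k), ← zpow_mul, mul_comm i, mul_comm k, zpow_mul, zpow_mul, zpow_natCast, zpow_natCast, hb,
      hwp, one_zpow, one_zpow, one_mul]
  have hDW : ∀ d ∈ D, ∀ g : P, ⁅d, g⁆ ∈ Subgroup.zpowers w := by
    intro d hd g
    rw [hD, sup_comm] at hd
    obtain ⟨u, hu, v, hv, rfl⟩ := Subgroup.mem_sup_of_normal_right.1 hd
    have hvc := Subgroup.mem_center_iff.1 (Subgroup.zpowers_le.2 hwz hv)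
    rw [show ⁅u * v, g⁆ = u * ⁅v, g⁆ * u⁻¹ * ⁅u, g⁆ by simp only [commutatorElement_def]; group,
      commutatorElement_eq_one_iff_mul_comm.2 (hvc g).symm, mul_one, mul_inv_cancel, one_mul]
    obtain ⟨i, rfl⟩ := hu
    refine (QuotientGroup.eq_one_iff _).1 ?_
    have hc' : Commute (QuotientGroup.mk' (Subgroup.zpowers w) b) (QuotientGroup.mk' (Subgroup.zpowers w) g) :=
      commutatorElement_eq_one_iff_mul_comm.1
        ((map_commutatorElement _ b g).symm.trans ((QuotientGroup.eq_one_iff _).2 (hbW g)))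
    show QuotientGroup.mk' (Subgroup.zpowers w) ⁅b ^ i, g⁆ = 1
    rw [map_commutatorElement, map_zpow]
    exact commutatorElement_eq_one_iff_mul_comm.2 (hc'.zpow_left i).eq
  have hstep := mul_pow_mod h.hp2 D _ hcomm hDe (Subgroup.zpowers_le.2 hwz) hDW
  have hmul : ∀ u v : P, (u * v) ^ p ^ (n - 3) = u ^ p ^ (n - 3) * v ^ p ^ (n - 3) := by
    intro u v
    obtain ⟨c, hcW, hc', hc1⟩ := hstep u v
    rcases Nat.eq_zero_or_pos j with hj0 | hj0
    · rw [hj, hj0, zero_add, pow_one, hc', hc1 (Or.inl (hn4 (by omega))), mul_one]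
    have hcz : ∀ g : P, g ^ p ∈ Subgroup.zpowers (z ^ p) := by
      intro g
      have hg : g ∈ Subgroup.closure ({a, b, z} : Set P) := hgen ▸ Subgroup.mem_top g
      induction hg using Subgroup.closure_induction with
      | mem v hv =>
        rcases hv with rfl | rfl | rfl
        · rw [ha]; exact one_mem _
        · rw [hb]; exact one_mem _
        · exact Subgroup.mem_zpowers _
      | one => rw [one_pow]; exact one_mem _
      | mul v v' _ _ hv hv' =>
        obtain ⟨d, hd, hd', -⟩ := hstep v v'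
        rw [hd']
        exact mul_mem (mul_mem hv hv') (Subgroup.zpowers_le.2 hwzp hd)
      | inv v _ hv => rw [inv_pow]; exact inv_mem hv
    have hcc : ∀ g : P, ∀ y : P, Commute (g ^ p) y := fun g y =>
      (Subgroup.mem_center_iff.1 (Subgroup.zpowers_le.2 hzp (hcz g)) y).symm
    have hcp : c ^ p ^ j = 1 := by
      obtain ⟨i, rfl⟩ := hcW
      obtain ⟨k, hk⟩ : ∃ k, j = k + 1 := ⟨j - 1, by omega⟩
      have hwip : (w ^ i) ^ p = 1 := by
        rw [← zpow_natCast, ← zpow_mul, mul_comm, zpow_mul, zpow_natCast, hwp, one_zpow]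
      show (w ^ i) ^ p ^ j = 1
      rw [hk, pow_succ', pow_mul, hwip, one_pow]
    rw [hj, pow_succ', pow_mul, pow_mul, pow_mul, hc',
      ((show Commute (u ^ p * v ^ p) c from ((hcc u c).mul_left (hcc v c)))).mul_pow,
      (hcc u (v ^ p)).mul_pow, hcp, mul_one]
  refine h.power_false_sub (p ^ (n - 3)) hgen hmul (fun g hg => ?_) ⟨z, hw ▸ hw1⟩
  rcases hg with rfl | rfl | rfl
  · rw [hj, pow_succ', pow_mul, ← Subgroup.coe_pow, ha]; simp
  · rw [hj, pow_succ', pow_mul, ← Subgroup.coe_pow, hb]; simp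
  · rw [← Subgroup.coe_pow, ← hw]
    refine h.mem_zpowers_of_commute b.2 a.2 w.2 (by rw [← Subgroup.coe_pow, hb]; rfl) (fun e => hws ?_)
      (by rw [← Subgroup.coe_pow, hwp]; rfl) ?_ ?_
    · have e' : b * a = a * b := Subtype.ext e
      have h2 : b * w ^ s = b := by rw [← hab, mul_assoc, e', inv_mul_cancel_left]
      exact mul_eq_left.1 h2
    · exact congrArg Subtype.val (Subgroup.mem_center_iff.1 hwz b).symm
    · exact congrArg Subtype.val (Subgroup.mem_center_iff.1 hwz a).symm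

/-- The group of order `81` of the second family has class three. -/
theorem familyG_lcs {s : ℕ} {a b z : R} (hws : z ^ s ≠ 1) (hab : a⁻¹ * b * a = b * z ^ s) (haz : a⁻¹ * z * a = b * z) :
    (⊤ : Subgroup R).lowerCentralSeries 2 ≠ ⊥ := by
  intro hbot
  have h1 : ⁅a⁻¹, z⁆ ∈ (⊤ : Subgroup R).lowerCentralSeries 1 := by
    rw [Subgroup.lowerCentralSeries_succ]
    exact Subgroup.commutator_mem_commutator (Subgroup.mem_top _) (Subgroup.mem_top _)
  have hb' : ⁅a⁻¹, z⁆ = b := by rw [commutatorElement_def, inv_inv, haz, mul_inv_cancel_right]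
  have h2 : ⁅⁅a⁻¹, z⁆, a⁻¹⁆ ∈ (⊤ : Subgroup R).lowerCentralSeries 2 := by
    rw [Subgroup.lowerCentralSeries_succ]
    exact Subgroup.commutator_mem_commutator h1 (Subgroup.mem_top _)
  rw [hbot, Subgroup.mem_bot, hb', commutatorElement_eq_one_iff_mul_comm] at h2
  refine hws ?_
  have e : a⁻¹ * b * a = b := by rw [← h2, inv_mul_cancel_right]
  rw [hab] at e
  exact mul_eq_left.1 e

end Cfsg.Agent.LocalEven.IsolatedSylow
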