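import Cfsg.Agent.Lib.LocalEven.IsolatedSylow.MaxThree
import Cfsg.Agent.Lib.Solv.MetacyclicSplit

/-!
The possible structures of the Sylow subgroup.
-/

set_option autoImplicit false
set_option linter.style.haveILetI false

namespace Cfsg.Agent.LocalEven.IsolatedSylow

open Cfsg Cfsg.Agent.Fusion
open scoped commutatorElement

universe u

variable {K : Type u} [Group K] [Finite K] {p : ℕ} [hp : Fact p.Prime] {P : Subgroup K} {x : K}

/-- With trivial norms and the full coprime commutator forcing commutativity, there is a contradiction. -/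
theorem Setting.false_of_norm (h : Setting K p P x) (hW : Local.FS.NormTrivial p P)
    (hab : ∀ A : Subgroup K, A ≤ Subgroup.normalizer (P : Set K) → (Nat.card A).Coprime p →
      ⁅P, A⁆ = P → IsMulCommutative P) : False := by
  classical
  obtain ⟨N, hN⟩ : ∃ N, N = Subgroup.normalizer (P : Set K) := ⟨_, rfl⟩
  have hPN : P ≤ N := hN ▸ Subgroup.le_normalizer
  haveI hn : (P.subgroupOf N).Normal :=
    Subgroup.normal_subgroupOf_of_le_normalizer (hN ▸ le_rfl)
  have hndvd : ¬ p ∣ (P.subgroupOf N).index := fun hd => h.syl.not_dvd (by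
    rw [Subgroup.relIndex_top_right]
    exact hd.trans (Subgroup.relIndex_dvd_index_of_le hPN))
  obtain ⟨c, hc⟩ := (h.syl.isPGroup).exists_card_eq
  have hcc : Nat.card (P.subgroupOf N) = p ^ c := by rw [Solv.card_subgroupOf hPN, hc]
  obtain ⟨A₀, hA₀⟩ := Subgroup.exists_right_complement'_of_coprime (N := P.subgroupOf N) (by
    rw [hcc]; exact Nat.Coprime.pow_left c (hp.out.coprime_iff_not_dvd.2 hndvd))
  obtain ⟨A, hA⟩ : ∃ A, A = A₀.map N.subtype := ⟨_, rfl⟩
  have hAN : A ≤ Subgroup.normalizer (P : Set K) := hN ▸ hA ▸ Subgroup.map_subtype_le A₀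
  have hAp : (Nat.card A).Coprime p := by
    rw [hA, Solv.card_map_subtype, ← hA₀.symm.index_eq_card]
    exact (hp.out.coprime_iff_not_dvd.2 hndvd).symm
  have hco : (Nat.card A).Coprime (Nat.card P) := by rw [hc]; exact hAp.pow_right c
  haveI := h.syl.isPGroup.isNilpotent
  have hsol : Group.IsSolvable A ∨ Group.IsSolvable P := Or.inr inferInstance
  have hxC : x ∈ Subgroup.centralizer (A : Set K) := Subgroup.mem_centralizer_iff.2 fun a ha =>
    mul_inv_eq_iff_eq_mul.1 (h.fixed a ((Subgroup.mem_normalizer_iff.1 (hAN ha) x).1 h.mem))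
  have hx1 : x ≠ 1 := fun e => hp.out.ne_one (by rw [← h.order, e, orderOf_one])
  by_cases hfull : ⁅P, A⁆ = P
  · haveI := hab A hAN hAp hfull
    have hd := (Cfsg.Agent.S0055.decomp A P hAN hco).1
    rw [hfull] at hd
    exact hx1 (Subgroup.mem_bot.1 (hd ▸ (⟨⟨h.mem, hxC⟩, h.mem⟩ : x ∈ P ⊓ Subgroup.centralizer (A : Set K) ⊓ P)))
  obtain ⟨l, hl, hlΦ⟩ : ∃ l ∈ P ⊓ Subgroup.centralizer (A : Set K), l ∉ (frattini ↥P).map P.subtype := by
    by_contra hh
    push Not at hh
    refine hfull ?_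
    have hle : ⁅P, A⁆ ≤ P := (Solv.commutator_normal_in hAN).1
    have h1 : (⁅P, A⁆).subgroupOf P = ⊤ := frattini_nongenerating (eq_top_iff.2 fun y _ => by
      have hy : (y : K) ∈ ⁅P, A⁆ ⊔ (P ⊓ Subgroup.centralizer (A : Set K)) :=
        (Solv.commutator_sup_fixed hAN hco hsol).symm ▸ y.2
      have hy' : (y : K) ∈ ((⁅P, A⁆).subgroupOf P ⊔ frattini ↥P).map P.subtype := by
        rw [Subgroup.map_sup, Subgroup.map_subgroupOf_eq_of_le hle]
        have hh' : P ⊓ Subgroup.centralizer (A : Set K) ≤ (frattini ↥P).map P.subtype := hh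
        exact (sup_le_sup le_rfl hh') hy
      obtain ⟨y', hy', e⟩ := hy'
      exact P.subtype_injective e ▸ hy')
    exact le_antisymm hle (Subgroup.subgroupOf_eq_top.1 h1)
  refine h.false_of_fixed hW hl.1 hlΦ fun g hg => ?_
  obtain ⟨u, hu, huv⟩ : ∃ u ∈ P, ∃ a ∈ A, g = u * a := by
    obtain ⟨⟨u, a⟩, e⟩ := hA₀.2 ⟨g, hN ▸ hg⟩
    exact ⟨((u : N) : K), u.2, ((a : N) : K), hA ▸ ⟨(a : N), a.2, rfl⟩,
      (congrArg (fun t : N => (t : K)) e).symm⟩
  obtain ⟨a, ha, rfl⟩ := huv
  rw [show (u * a) * l * (u * a)⁻¹ = u * (a * l * a⁻¹) * u⁻¹ by group,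
    show a * l * a⁻¹ = l by rw [Subgroup.mem_centralizer_iff.1 hl.2 a ha, mul_inv_cancel_right]]
  refine ⟨⁅(⟨l, hl.1⟩ : P)⁻¹, ⟨u, hu⟩⁆, Solv.commutator_le_frattini_pgroup h.syl.isPGroup (by
    rw [commutator_def]; exact Subgroup.commutator_mem_commutator (Subgroup.mem_top _) (Subgroup.mem_top _)), ?_⟩
  show l⁻¹ * u * l⁻¹⁻¹ * u⁻¹ = l⁻¹ * (u * l * u⁻¹)
  group

/-- `P` is not abelian. -/
theorem Setting.not_comm (h : Setting K p P x) : ¬ IsMulCommutative P := fun hc => by
  refine h.false_of_norm (fun M hM u μ hi m => ?_) fun _ _ _ _ => hc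
  have e : ∀ i : ℕ, (⟨u ^ i * m * (u ^ i)⁻¹, hM.conj_mem _ m.2 _⟩ : M) = m := fun i => Subtype.ext (by
    show u ^ i * (m : P) * (u ^ i)⁻¹ = m
    rw [hc.is_comm.comm (u ^ i) (m : P), mul_inv_cancel_right])
  rw [Finset.prod_congr rfl fun i _ => congrArg μ (e i), Finset.prod_const, Finset.card_range]
  apply Multiplicative.toAdd.injective
  simp

/-- `P` is not metacyclic. -/
theorem Setting.not_metacyclic (h : Setting K p P x) : ¬ Cfsg.IsMetacyclic P := fun hm => by
  refine h.false_of_norm (normTrivial_of_two_gen h.hp2 h.syl.isPGroup fun M _ _ => ?_) fun A hA hAp hfull =>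
    Solv.MetaAct.abelian_of_full h.hp2 P A h.syl.isPGroup hm hA hAp hfull
  obtain ⟨a, b, hab⟩ := pair_of_metacyclic (Solv.MetaAct.isMetacyclic_of_injective M.subtype M.subtype_injective hm)
  exact twoGen_map M a b hab

omit [Finite K] in
/-- A nonmetacyclic nonabelian group of order `p³` is extraspecial of exponent `p`. -/
theorem extraspecial_of_three {R : Type u} [Group R] [Finite R] (hc : Nat.card R = p ^ 3) (hm : ¬ Cfsg.IsMetacyclic R)
    (hna : ¬ IsMulCommutative R) : Cfsg.IsExtraspecial p R ∧ ∀ y : R, y ^ p = 1 := by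
  have hR : IsPGroup p R := IsPGroup.of_card hc
  have hM : Solv.MaxC.IsMax R p 3 := ⟨hc, by omega, fun e => hna ⟨⟨fun a b => by
    rw [show (3 : ℕ) - 2 = 0 + 1 from rfl, Subgroup.lowerCentralSeries_succ, Subgroup.lowerCentralSeries_zero] at e
    exact commutatorElement_eq_one_iff_mul_comm.1 (Subgroup.mem_bot.1
      (e ▸ Subgroup.commutator_mem_commutator (Subgroup.mem_top a) (Subgroup.mem_top b)))⟩⟩⟩
  have hcen := hM.center_eq le_rfl
  have hcard : Nat.card (Subgroup.center R) = p := by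
    rw [hcen, hM.F_card (by omega) (by omega)]; exact pow_one p
  have hpow : ∀ y : R, y ^ p ∈ Subgroup.center R := fun y => hcen ▸ hM.pow_mem_F_two le_rfl y
  refine ⟨Solv.isExtraspecial_of hR hcard (by rw [hcen]; rfl) hpow, fun y => ?_⟩
  by_contra hy
  refine hm (Fusion.metacyclic_of_cyclic_index_p hR (Subgroup.zpowers y) inferInstance ?_)
  have h2 : y ^ p ^ 2 = 1 := by
    rw [pow_two, pow_mul]
    have := orderOf_dvd_natCard (⟨y ^ p, hpow y⟩ : Subgroup.center R)
    rw [hcard] at this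
    exact congrArg Subtype.val (orderOf_dvd_iff_pow_eq_one.1 this)
  have ho : orderOf y = p ^ 2 := orderOf_eq_prime_pow (by rwa [pow_one]) h2
  have h3 := (Subgroup.zpowers y).card_mul_index
  rw [Nat.card_zpowers, ho, hc, pow_succ p 2] at h3
  exact Nat.eq_of_mul_eq_mul_left (pow_pos hp.out.pos 2) h3

/-- The structure of `P`. -/
theorem Setting.struct (h : Setting K p P x) :
    (Cfsg.IsExtraspecial p P ∧ Nat.card P = p ^ 3 ∧ ∀ y ∈ P, y ^ p = 1) ∨
      (p = 3 ∧ ∃ k : ℕ, 2 ≤ k ∧ Nat.card P = 3 ^ (2 * k + 1) ∧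
        ∃ _ : Group.IsNilpotent P, Group.nilpotencyClass P = 2 * k) := by
  haveI := h.syl.isPGroup.isNilpotent
  obtain ⟨n, hn⟩ := h.syl.isPGroup.exists_card_eq
  have hn3 : 3 ≤ n := by
    by_contra hh
    refine h.not_comm ?_
    rcases (show n = 0 ∨ n = 1 ∨ n = 2 by omega) with rfl | rfl | rfl
    · haveI : Subsingleton P := (Nat.card_eq_one_iff_unique.1 (hn.trans (pow_zero p))).1
      exact ⟨⟨fun a b => Subsingleton.elim _ _⟩⟩
    · haveI : IsCyclic P := isCyclic_of_prime_card (hn.trans (pow_one p))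
      exact IsCyclic.isMulCommutative
    · exact ⟨⟨IsPGroup.commutative_of_card_eq_prime_sq hn⟩⟩
  rcases eq_or_lt_of_le hn3 with rfl | hn4
  · obtain ⟨he, hexp⟩ := extraspecial_of_three hn h.not_metacyclic h.not_comm
    exact Or.inl ⟨he, hn, fun y hy => congrArg Subtype.val (hexp ⟨y, hy⟩)⟩
  rcases Cfsg.Agent.S3888.result h.hp2 n hn (Solv.RankTwo.prankLE_of_injective P.subtype P.subtype_injective h.rank)
    with hm | ⟨-, a, b, z, hgen, ha, hb, hz, haz, hbz, hab⟩ |
      ⟨-, s, a, b, z, hs, hgen, ha, hb, hz, hbz, hab, haz⟩ | ⟨hp3, h2, hne⟩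
  · exact absurd hm h.not_metacyclic
  · exact (h.not_familyC hn4 hn hgen ha hb hz haz hbz hab).elim
  · by_cases h4 : n = 4 ∧ p = 3
    · obtain ⟨rfl, rfl⟩ := h4
      exfalso
      have hs0 : ¬ 3 ∣ s := by
        intro hd
        rcases hs with rfl | hs
        · exact absurd hd (by norm_num)
        · exact hs ⟨0, by rw [(ZMod.natCast_eq_zero_iff s 3).2 hd, mul_zero]⟩
      have hz3 : z ^ (3 : ℕ) ^ (4 - 3) ≠ 1 := familyG_ne_one le_rfl hn hgen ha hb hbz hab haz
      have hws : z ^ (s * 3 ^ (4 - 3)) ≠ 1 := by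
        rw [mul_comm, pow_mul]
        intro e
        refine hs0 ?_
        rw [← orderOf_eq_prime (p := 3) ?_ hz3]
        · exact orderOf_dvd_of_pow_eq_one e
        · rw [← pow_mul]; exact hz
      exact h.not_max_even ⟨hn, by omega, familyG_lcs hws hab haz⟩ le_rfl ⟨2, rfl⟩
    · refine (h.not_familyG hn4 (fun e => ?_) hn hs hgen ha hb hz hbz hab haz).elim
      have hp3 : p ≠ 3 := fun e' => h4 ⟨e, e'⟩
      have := hp.out.two_le
      have := h.hp2
      omega
  · subst hp3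
    refine Or.inr ⟨rfl, ?_⟩
    have hM : Solv.MaxC.IsMax P 3 n := ⟨hn, h2, hne⟩
    obtain ⟨k, hk⟩ : ∃ k, n = 2 * k + 1 := by
      rcases Nat.even_or_odd n with hev | hod
      · exact (h.not_max_even hM hn4 hev).elim
      · exact hod
    refine ⟨k, by omega, hk ▸ hn, h.syl.isPGroup.isNilpotent, le_antisymm ?_ ?_⟩
    · refine Subgroup.lowerCentralSeries_eq_bot_iff_nilpotencyClass_le.1 ?_
      have := Solv.lcs_eq_bot hM.isPGroup hn h2
      rwa [show n - 1 = 2 * k by omega] at this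
    · by_contra hlt
      refine hne (Subgroup.lowerCentralSeries_eq_bot_iff_nilpotencyClass_le.2 ?_)
      omega

end Cfsg.Agent.LocalEven.IsolatedSylow
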