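import Cfsg.Agent.Lib.Solv.MaxPower
import Cfsg.Agent.Lib.Solv.MaxCenter

/-!
`3`-groups of maximal class of even length: automorphisms fixing the centre fix an element modulo
the Frattini subgroup.
-/

set_option autoImplicit false
set_option linter.style.haveILetI false

open scoped commutatorElement

namespace Cfsg.Agent.LocalEven.IsolatedSylow

open Cfsg.Agent.Solv Cfsg.Agent.Solv.MaxC Cfsg.Agent.Solv.PolySeq

universe u

variable {R : Type u} [Group R]

/-- Commutators with elements of `γ (k + 1)` are central modulo `γ (k + 3)`. -/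
theorem comm_central_mod {k : ℕ} {u v : R} (hv : v ∈ F R (k + 1)) (g : R) :
    Commute (QuotientGroup.mk' (F R (k + 3)) ⁅u, v⁆) (QuotientGroup.mk' (F R (k + 3)) g) := by
  have h1 := F_commutator (show u ∈ F R 1 from Subgroup.mem_top u) hv
  have h2 := F_commutator h1 (show g ∈ F R 1 from Subgroup.mem_top g)
  rw [show 1 + (k + 1) + 1 = k + 3 by omega] at h2
  refine commutatorElement_eq_one_iff_mul_comm.1 ?_
  rw [← map_commutatorElement]
  exact (QuotientGroup.eq_one_iff _).2 h2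

theorem comm_mul_left_mod {k : ℕ} {u u' v : R} (hv : v ∈ F R (k + 1)) :
    QuotientGroup.mk' (F R (k + 3)) ⁅u * u', v⁆ =
      QuotientGroup.mk' (F R (k + 3)) ⁅u, v⁆ * QuotientGroup.mk' (F R (k + 3)) ⁅u', v⁆ := by
  rw [show ⁅u * u', v⁆ = u * ⁅u', v⁆ * u⁻¹ * ⁅u, v⁆ by simp only [commutatorElement_def]; group,
    map_mul, map_mul, map_mul, ← (comm_central_mod hv u).eq, mul_assoc (QuotientGroup.mk' _ ⁅u', v⁆),
    ← map_mul _ u, mul_inv_cancel, map_one, mul_one, (comm_central_mod hv _).eq]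

theorem comm_mul_right_mod {k : ℕ} {u v v' : R} (hv' : v' ∈ F R (k + 1)) :
    QuotientGroup.mk' (F R (k + 3)) ⁅u, v * v'⁆ =
      QuotientGroup.mk' (F R (k + 3)) ⁅u, v⁆ * QuotientGroup.mk' (F R (k + 3)) ⁅u, v'⁆ := by
  rw [show ⁅u, v * v'⁆ = ⁅u, v⁆ * (v * ⁅u, v'⁆ * v⁻¹) by simp only [commutatorElement_def]; group,
    map_mul, map_mul, map_mul, ← (comm_central_mod hv' v).eq, mul_assoc (QuotientGroup.mk' _ ⁅u, v'⁆),
    ← map_mul _ v, mul_inv_cancel, map_one, mul_one]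

/-- `x ↦ ⁅x, v⁆` modulo `γ (k + 3)`. -/
def leftComm {k : ℕ} {v : R} (hv : v ∈ F R (k + 1)) : R →* R ⧸ F R (k + 3) :=
  MonoidHom.mk' (fun u => QuotientGroup.mk' (F R (k + 3)) ⁅u, v⁆) fun _ _ => comm_mul_left_mod hv

/-- `v ↦ ⁅u, v⁆` on `γ (k + 1)` modulo `γ (k + 3)`. -/
def rightComm (k : ℕ) (u : R) : ↥(F R (k + 1)) →* R ⧸ F R (k + 3) :=
  MonoidHom.mk' (fun v => QuotientGroup.mk' (F R (k + 3)) ⁅u, (v : R)⁆) fun _ w => comm_mul_right_mod w.2

theorem comm_eq_one_mod {k : ℕ} {u v : R} (h : ⁅u, v⁆ ∈ F R (k + 3)) :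
    QuotientGroup.mk' (F R (k + 3)) ⁅u, v⁆ = 1 :=
  (QuotientGroup.eq_one_iff _).2 h

/-- The step of the induction along a chain of commutators. -/
theorem comm_step {k : ℕ} {t m c d : R} {a e : ℤ} (hc : c ∈ F R (k + 1)) (hd : d ∈ F R (k + 2))
    (hm : ⁅m, c⁆ ∈ F R (k + 3)) :
    (⁅t, c⁆ ^ (a * e))⁻¹ * ⁅m * t ^ a, c ^ e * d⁆ ∈ F R (k + 3) := by
  refine (QuotientGroup.eq_one_iff _).1 ?_
  show QuotientGroup.mk' (F R (k + 3)) _ = 1
  have hd' : d ∈ F R (k + 1) := F_antitone (Nat.le_succ _) hd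
  have h1 : ⁅m * t ^ a, d⁆ ∈ F R (k + 3) := by
    have := F_commutator (show m * t ^ a ∈ F R 1 from Subgroup.mem_top _) hd
    rwa [show 1 + (k + 2) = k + 3 by omega] at this
  have h2 : QuotientGroup.mk' (F R (k + 3)) ⁅m * t ^ a, c ^ e⁆ =
      QuotientGroup.mk' (F R (k + 3)) ⁅m * t ^ a, c⁆ ^ e :=
    map_zpow (rightComm k (m * t ^ a)) ⟨c, hc⟩ e
  have h3 : QuotientGroup.mk' (F R (k + 3)) ⁅t ^ a, c⁆ = QuotientGroup.mk' (F R (k + 3)) ⁅t, c⁆ ^ a :=
    map_zpow (leftComm hc) t a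
  rw [map_mul, map_inv, map_zpow, comm_mul_right_mod hd', comm_eq_one_mod h1, mul_one, h2,
    comm_mul_left_mod hc, comm_eq_one_mod hm, one_mul, h3, ← zpow_mul, inv_mul_cancel]

variable [Finite R]

theorem mem_F_of_equiv (γ : R ≃* R) {k : ℕ} {a : R} (ha : a ∈ F R k) : γ a ∈ F R k :=
  F_map γ.toMonoidHom γ.surjective k ▸ Subgroup.mem_map_of_mem γ.toMonoidHom ha

theorem mem_twoStep_of_equiv (γ : R ≃* R) {j : ℕ} {g : R} (hg : g ∈ twoStep R j) : γ g ∈ twoStep R j :=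
  fun a ha => by
    have h := mem_F_of_equiv γ (hg _ (mem_F_of_equiv γ.symm ha))
    rwa [map_commutatorElement, γ.apply_symm_apply] at h

theorem zmod_three_fix : ∀ a b : ZMod 3, ∀ m : ℕ, m ≠ 0 → a ^ (2 * m) * b = 1 → b = 1 := by
  intro a b m hm
  rw [pow_mul]
  have h : a ^ 2 = 0 ∨ a ^ 2 = 1 := by revert a; decide
  rcases h with h | h <;> rw [h]
  · rw [zero_pow hm, zero_mul]; exact fun h => absurd h zero_ne_one
  · rw [one_pow, one_mul]; exact id

/-- In maximal class of even length some element outside the Frattini subgroup is fixed modulo it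
by every automorphism fixing a central element of order three. -/
theorem exists_fixed [Fact (Nat.Prime 3)] {n : ℕ} (h : IsMax R 3 n) (h4 : 4 ≤ n) (hev : Even n) (xR : R)
    (hx : orderOf xR = 3) (hxc : xR ∈ Subgroup.center R) :
    ∃ l : R, l ∉ frattini R ∧ ∀ γ : R ≃* R, γ xR = xR → l⁻¹ * γ l ∈ frattini R := by
  haveI := h.isPGroup.isNilpotent
  have hΦ : F R 2 ≤ frattini R := by
    rw [show F R 2 = commutator R from rfl]; exact commutator_le_frattini_pgroup h.isPGroup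
  obtain ⟨t, ht⟩ : ∃ t, t ∉ twoStep R 2 := by
    by_contra hh; push Not at hh
    exact h.twoStep_ne_top (j := 2) (by omega) (by omega) (eq_top_iff.2 fun g _ => hh g)
  have ht2 : t ∉ F R 2 := fun e => ht (F_two_le_twoStep 2 e)
  obtain ⟨w, hw⟩ := h.exists_not_mem_sup (by omega) ht2
  obtain ⟨k₀, hl⟩ := h.twoStep_cover le_rfl (by omega) ht w
  have hlnot : w * t ^ k₀ ∉ Subgroup.zpowers t ⊔ F R 2 := fun e => hw (by
    simpa using mul_mem e (inv_mem (Subgroup.mem_sup_left (pow_mem (Subgroup.mem_zpowers t) k₀))))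
  have hl2 : w * t ^ k₀ ∉ F R 2 := fun e => hlnot (Subgroup.mem_sup_right e)
  generalize w * t ^ k₀ = l at hl hlnot hl2
  have hP1 : twoStep R 2 = Subgroup.zpowers l ⊔ F R 2 := h.twoStep_eq (by omega) (by omega) hl2 hl
  refine ⟨l, fun e => ?_, ?_⟩
  · have h1 : Subgroup.zpowers t = ⊤ := frattini_nongenerating (eq_top_iff.2
      ((h.gen_top ht2 hlnot).symm.trans_le (sup_le ((Subgroup.zpowers_le.2 e).trans le_sup_right)
        (sup_le_sup_left hΦ _))))
    have h2 := h.zpowers_sup_card (by omega) ht2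
    rw [h1, top_sup_eq, Subgroup.card_top, h.card] at h2
    have := Nat.pow_right_injective (show 2 ≤ 3 by norm_num) h2
    omega
  intro γ hγ
  obtain ⟨f, f0, fS⟩ : ∃ f : ℕ → R, f 0 = l ∧ ∀ i, f (i + 1) = ⁅t, f i⁆ :=
    ⟨fun i => Nat.rec l (fun _ r => ⁅t, r⁆) i, rfl, fun _ => rfl⟩
  have htw : ∀ i, 1 ≤ i → i + 3 ≤ n → twoStep R (i + 1) = twoStep R 2 := by
    intro i h1 h2
    rcases eq_or_lt_of_le h1 with rfl | h1'
    · rfl
    · exact h.twoStep_eq_two (i + 1) (by omega) (by omega) (by omega)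
  have hf : ∀ i, i + 2 ≤ n → f i ∈ F R (i + 1) ∧ f i ∉ F R (i + 2) := by
    intro i
    induction i with
    | zero => intro _; rw [f0]; exact ⟨Subgroup.mem_top l, hl2⟩
    | succ i ih =>
      intro hi
      obtain ⟨h1, h1'⟩ := ih (by omega)
      rw [fS]
      rcases Nat.eq_zero_or_pos i with rfl | hi0
      · rw [f0]; exact h.comm_gen (by omega) ht2 hlnot
      · exact h.comm_not_mem (j := i + 1) (by omega) (by rw [htw i hi0 (by omega)]; exact ht) h1 h1'
  -- the action of `γ`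
  obtain ⟨k₁, hk₁⟩ := h.twoStep_cover le_rfl (by omega) ht (γ t)
  obtain ⟨m, hm, a, hγt⟩ : ∃ m ∈ twoStep R 2, ∃ a : ℤ, γ t = m * t ^ a :=
    ⟨_, hk₁, -(k₁ : ℤ), by rw [zpow_neg, zpow_natCast, mul_inv_cancel_right]⟩
  obtain ⟨b, d₀, hd₀, hγl⟩ : ∃ b : ℤ, ∃ d ∈ F R 2, γ l = l ^ b * d := by
    have := mem_twoStep_of_equiv γ hl
    rw [hP1] at this
    obtain ⟨u, hu, v, hv, huv⟩ := Subgroup.mem_sup_of_normal_right.1 this
    obtain ⟨i, rfl⟩ := hu
    exact ⟨i, v, hv, huv.symm⟩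
  have hmc : ∀ i, i + 3 ≤ n → ⁅m, f i⁆ ∈ F R (i + 3) := by
    intro i hi
    rcases Nat.eq_zero_or_pos i with rfl | hi0
    · rw [f0]
      rw [hP1] at hm
      obtain ⟨u, hu, v, hv, rfl⟩ := Subgroup.mem_sup_of_normal_right.1 hm
      refine (QuotientGroup.eq_one_iff _).1 ?_
      show QuotientGroup.mk' (F R 3) ⁅u * v, l⁆ = 1
      have hl1 : l ∈ F R (0 + 1) := Subgroup.mem_top l
      obtain ⟨r, rfl⟩ := hu
      rw [comm_mul_left_mod (k := 0) hl1, comm_eq_one_mod (k := 0) (F_commutator (a := 2) (b := 1) hv (show l ∈ F R 1 from Subgroup.mem_top l)), mul_one]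
      have := map_zpow (leftComm hl1) l r
      simp only [leftComm, MonoidHom.mk'_apply, commutatorElement_self, map_one, one_zpow] at this
      exact this
    · have h1 : m ∈ twoStep R (i + 1) := by rw [htw i hi0 hi]; exact hm
      exact h1 _ (hf i (by omega)).1
  have hkey : ∀ i, i + 2 ≤ n → (f i ^ (a ^ i * b))⁻¹ * γ (f i) ∈ F R (i + 2) := by
    intro i
    induction i with
    | zero => intro _; rw [f0, pow_zero, one_mul, hγl, inv_mul_cancel_left]; exact hd₀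
    | succ i ih =>
      intro hi
      have h1 := comm_step (t := t) (a := a) (e := a ^ i * b) (hf i (by omega)).1 (ih (by omega))
        (hmc i (by omega))
      rw [mul_inv_cancel_left, ← hγt, ← map_commutatorElement, ← fS, ← mul_assoc, ← pow_succ'] at h1
      exact h1
  -- the last term is fixed
  obtain ⟨m₀, hm₀⟩ : ∃ m₀, n = 2 * m₀ + 2 := ⟨n / 2 - 1, by obtain ⟨j, rfl⟩ := hev; omega⟩
  obtain ⟨hc1, hc2⟩ := hf (n - 2) (by omega)
  rw [show n - 2 + 1 = n - 1 by omega] at hc1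
  rw [show n - 2 + 2 = n by omega, h.F_bot le_rfl, Subgroup.mem_bot] at hc2
  have hcard : Nat.card (F R (n - 1)) = 3 := by
    rw [h.F_card (by omega) (by omega), show n - (n - 1) = 1 by omega, pow_one]
  have hxF : xR ∈ F R (n - 1) := h.center_eq (by omega) ▸ hxc
  have hzx : Subgroup.zpowers xR = F R (n - 1) := Subgroup.eq_of_le_of_card_ge (Subgroup.zpowers_le.2 hxF)
    (by rw [Nat.card_zpowers, hx, hcard])
  obtain ⟨r, hr⟩ : f (n - 2) ∈ Subgroup.zpowers xR := hzx ▸ hc1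
  have hfix : γ (f (n - 2)) = f (n - 2) := by rw [← hr, map_zpow, hγ]
  have hk := hkey (n - 2) (by omega)
  rw [hfix, show n - 2 + 2 = n by omega, h.F_bot le_rfl, Subgroup.mem_bot, inv_mul_eq_one] at hk
  have hord : orderOf (f (n - 2)) = 3 := by
    refine orderOf_eq_prime ?_ hc2
    rw [← hr, ← zpow_natCast, ← zpow_mul, mul_comm, zpow_mul, zpow_natCast, ← hx, pow_orderOf_eq_one, one_zpow]
  have hb : (b : ZMod 3) = 1 := by
    refine zmod_three_fix (a : ZMod 3) b m₀ (by omega) ?_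
    have h1 : (3 : ℤ) ∣ a ^ (n - 2) * b - 1 := by
      have := orderOf_dvd_iff_zpow_eq_one.2 (show f (n - 2) ^ (a ^ (n - 2) * b - 1) = 1 by
        rw [zpow_sub_one, hk, mul_inv_cancel])
      rwa [hord] at this
    have h2 := (ZMod.intCast_zmod_eq_zero_iff_dvd _ 3).2 h1
    rw [Int.cast_sub, Int.cast_mul, Int.cast_pow, Int.cast_one, sub_eq_zero, show n - 2 = 2 * m₀ by omega] at h2
    exact h2
  refine hΦ ?_
  rw [hγl, ← mul_assoc, ← zpow_neg_one, ← zpow_add]
  refine mul_mem ?_ hd₀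
  obtain ⟨j, hj⟩ : (3 : ℤ) ∣ -1 + b := by
    refine (ZMod.intCast_zmod_eq_zero_iff_dvd _ 3).1 ?_
    rw [Int.cast_add, hb, Int.cast_neg, Int.cast_one, neg_add_cancel]
  rw [hj, zpow_mul]
  refine zpow_mem ?_ j
  rw [show l ^ (3 : ℤ) = l ^ 3 from zpow_natCast l 3]
  exact h.pow_mem_F_two (by omega) l

end Cfsg.Agent.LocalEven.IsolatedSylow
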