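import Cfsg.Agent.Lib.LocalEven.IsolatedSylow.Families
import Cfsg.Agent.Lib.LocalEven.IsolatedSylow.MaxFix
import Cfsg.Agent.Lib.Solv.MaxThree
import Cfsg.Agent.Lib.Fusion.RankTwoOmega
import Cfsg.Agent.Lib.Solv.RankTwoGroups
import Cfsg.Agent.S3888

/-!
The maximal class branch.
-/

set_option autoImplicit false
set_option linter.style.haveILetI false

namespace Cfsg.Agent.LocalEven.IsolatedSylow

open Cfsg Cfsg.Agent.Fusion
open scoped commutatorElement
open Cfsg.Agent.Solv (PolySeq.F PolySeq.F_antitone)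

universe u

variable {R : Type u} [Group R]

theorem twoGen_map (M : Subgroup R) (a b : M) (h : Subgroup.closure ({a, b} : Set M) = ⊤) : TwoGen M :=
  ⟨(a : R), b, by
    rw [← show (M.subtype '' {a, b}) = ({(a : R), (b : R)} : Set R) from Set.image_pair _ a b,
      ← MonoidHom.map_closure, h, ← MonoidHom.range_eq_map, Subgroup.range_subtype]⟩

theorem pair_of_finset (T : Finset R) (hT : T.card ≤ 2) (h : Subgroup.closure (T : Set R) = ⊤) :
    ∃ a b : R, Subgroup.closure ({a, b} : Set R) = ⊤ := by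
  classical
  rcases (show T.card = 0 ∨ T.card = 1 ∨ T.card = 2 by omega) with h0 | h1 | h2
  · refine ⟨1, 1, eq_top_iff.2 ((h.symm.trans_le ?_))⟩
    rw [Finset.card_eq_zero.1 h0, Finset.coe_empty, Subgroup.closure_empty]; exact bot_le
  · obtain ⟨a, rfl⟩ := Finset.card_eq_one.1 h1
    exact ⟨a, a, by simpa using h⟩
  · obtain ⟨a, b, -, rfl⟩ := Finset.card_eq_two.1 h2
    exact ⟨a, b, by simpa using h⟩

theorem pair_of_metacyclic (h : Cfsg.IsMetacyclic R) : ∃ a b : R, Subgroup.closure ({a, b} : Set R) = ⊤ := by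
  obtain ⟨N, hN, hNc, hq⟩ := h
  haveI := hN
  obtain ⟨a, ha⟩ := IsCyclic.exists_generator (α := N)
  obtain ⟨q, hq'⟩ := IsCyclic.exists_generator (α := R ⧸ N)
  obtain ⟨b, rfl⟩ := QuotientGroup.mk'_surjective N q
  refine ⟨(a : R), b, eq_top_iff.2 fun g _ => ?_⟩
  obtain ⟨i, hi⟩ := hq' (QuotientGroup.mk' N g)
  have hbi : (b ^ i)⁻¹ * g ∈ N := QuotientGroup.eq.1 (by
    rw [← QuotientGroup.mk'_apply, map_zpow]; exact hi)
  obtain ⟨j, hj⟩ := ha ⟨_, hbi⟩
  have hj' : (a : R) ^ j = (b ^ i)⁻¹ * g := by rw [← Subgroup.coe_zpow]; exact congrArg Subtype.val hj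
  rw [show g = b ^ i * (a : R) ^ j by rw [hj', mul_inv_cancel_left]]
  have hb' : b ∈ Subgroup.closure ({(a : R), b} : Set R) := Subgroup.subset_closure (Or.inr rfl)
  have ha' : (a : R) ∈ Subgroup.closure ({(a : R), b} : Set R) := Subgroup.subset_closure (Or.inl rfl)
  exact mul_mem (zpow_mem hb' i) (zpow_mem ha' j)

variable [Finite R] {n : ℕ} [Fact (Nat.Prime 3)]

/-- A maximal class group of order at least `27` is not commutative. -/
theorem not_comm_of_isMax (h : Solv.MaxC.IsMax R 3 n) (h3 : 3 ≤ n) : ¬ ∀ a b : R, a * b = b * a := fun hc => by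
  have h1 : PolySeq.F R 2 = ⊥ := by
    rw [show PolySeq.F R 2 = commutator R from rfl, commutator_eq_bot_iff_center_eq_top, eq_top_iff]
    exact fun g _ => Subgroup.mem_center_iff.2 fun y => hc y g
  have h2 := h.F_card le_rfl (by omega : 2 ≤ n)
  rw [h1, Subgroup.card_bot] at h2
  exact absurd h2.symm (Nat.one_lt_pow (by omega) (by norm_num)).ne'

/-- In a group of maximal class the second centre has exponent `3`, if the rank is two. -/
theorem exp_ucs_two (h : Solv.MaxC.IsMax R 3 n) (h4 : 4 ≤ n) (hrk : Cfsg.PRankLE 3 2 R) {v : R}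
    (hv : v ∈ Subgroup.upperCentralSeries R 2) : v ^ 3 = 1 := by
  haveI := h.isPGroup.isNilpotent
  obtain ⟨E, hE⟩ := Solv.RankTwo.exists_frame (p := 3) (by norm_num) h.isPGroup hrk
    (fun hc => not_comm_of_isMax h (by omega) fun a b => (IsCyclic.isMulCommutative (α := R)).is_comm.comm a b)
  haveI := hE.norm
  have hE0 : E ≠ ⊥ := fun e => by have := hE.card; rw [e, Subgroup.card_bot] at this; norm_num at this
  have hlt := Solv.commutator_top_lt E hE0
  haveI hQn : (⁅E, (⊤ : Subgroup R)⁆).Normal := Subgroup.commutator_normal E ⊤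
  have hQc : ⁅E, (⊤ : Subgroup R)⁆ ≤ Subgroup.center R := by
    rcases eq_or_ne ⁅E, (⊤ : Subgroup R)⁆ ⊥ with e | e
    · rw [e]; exact bot_le
    have h1 := Solv.MaxC.p_mul_card_le_of_lt h.isPGroup hlt
    have h2 := Solv.MaxC.p_mul_card_le_of_lt h.isPGroup (Solv.commutator_top_lt _ e)
    rw [hE.card] at h1
    have h3 : ⁅⁅E, (⊤ : Subgroup R)⁆, (⊤ : Subgroup R)⁆ = ⊥ := Subgroup.eq_bot_of_card_le _ (by omega)
    intro q hq
    refine Subgroup.mem_center_iff.2 fun g => (commutatorElement_eq_one_iff_mul_comm.1 ?_).symm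
    exact Subgroup.mem_bot.1 (h3 ▸ Subgroup.commutator_mem_commutator hq (Subgroup.mem_top g))
  have hEU : E ≤ Subgroup.upperCentralSeries R 2 := fun e he => by
    rw [show (2 : ℕ) = 1 + 1 from rfl, Subgroup.mem_upperCentralSeries_succ_iff, Subgroup.upperCentralSeries_one]
    intro g
    simpa [commutatorElement_def] using hQc (Subgroup.commutator_mem_commutator he (Subgroup.mem_top g))
  have heq : E = Subgroup.upperCentralSeries R 2 := Subgroup.eq_of_le_of_card_ge hEU (le_of_eq (by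
    rw [h.ucs_two h4, h.F_card (by omega) (by omega), hE.card, show n - (n - 2) = 2 by omega]))
  exact hE.exp v (heq ▸ hv)

variable {K : Type u} [Group K] [Finite K] {P : Subgroup K} {x : K}

theorem Setting.mem_center (h : Setting K 3 P x) {w : P} (hw : (w : K) ∈ Subgroup.zpowers x) :
    w ∈ Subgroup.center P := by
  refine Subgroup.mem_center_iff.2 fun g => Subtype.ext ?_
  obtain ⟨i, hi⟩ := hw
  show (g : K) * w = w * g
  rw [← hi]
  exact ((show Commute (g : K) x from h.cen g g.2).zpow_right i).eq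

/-- The maximal subgroups of `P` have two generators. -/
theorem Setting.two_gen_maximal (h : Setting K 3 P x) (hM : Solv.MaxC.IsMax P 3 n) (h4 : 4 ≤ n)
    (M : Subgroup P) (hMn : M.Normal) (hMi : M.index = 3) : TwoGen M := by
  haveI := hMn
  have hMc : Nat.card M = 3 ^ (n - 1) := by
    have h1 := M.card_mul_index
    rw [hMi, hM.card] at h1
    refine Nat.eq_of_mul_eq_mul_right (by norm_num : 0 < 3) (h1.trans ?_)
    rw [← pow_succ]; congr 1; omega
  have hpair : ∀ a b z : M, Subgroup.closure ({a, b, z} : Set M) = ⊤ →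
      (z ∈ Subgroup.closure ({a, b} : Set M) → TwoGen M) ∧ (b ∈ Subgroup.closure ({a, z} : Set M) → TwoGen M) := by
    intro a b z hgen
    refine ⟨fun hz => twoGen_map M a b (eq_top_iff.2 (hgen.symm.trans_le ((Subgroup.closure_le _).2 ?_))),
      fun hb => twoGen_map M a z (eq_top_iff.2 (hgen.symm.trans_le ((Subgroup.closure_le _).2 ?_)))⟩
    · rintro g (rfl | rfl | rfl)
      · exact Subgroup.subset_closure (Or.inl rfl)
      · exact Subgroup.subset_closure (Or.inr rfl)
      · exact hz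
    · rintro g (rfl | rfl | rfl)
      · exact Subgroup.subset_closure (Or.inl rfl)
      · exact hb
      · exact Subgroup.subset_closure (Or.inr rfl)
  rcases Cfsg.Agent.S3888.result (p := 3) (by norm_num) (n - 1) hMc (h.rank_sub M) with
    hmc | ⟨h3, a, b, z, hgen, ha, hb, hz, haz, hbz, hab⟩ | ⟨-, s, a, b, z, -, hgen, -, -, -, -, -, haz⟩ | ⟨-, h2, hne⟩
  · obtain ⟨a, b, hgen⟩ := pair_of_metacyclic hmc
    exact twoGen_map M a b hgen
  · rcases eq_or_lt_of_le h3 with h30 | h34
    · refine (hpair a b z hgen).1 ?_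
      rw [← h30, Nat.sub_self, pow_zero, pow_one] at hab
      have e : z = b⁻¹ * (a⁻¹ * b * a) := by rw [hab, inv_mul_cancel_left]
      rw [e]
      have ha' : a ∈ Subgroup.closure ({a, b} : Set M) := Subgroup.subset_closure (Or.inl rfl)
      have hb' : b ∈ Subgroup.closure ({a, b} : Set M) := Subgroup.subset_closure (Or.inr rfl)
      exact mul_mem (inv_mem hb') (mul_mem (mul_mem (inv_mem ha') hb') ha')
    exfalso
    have hw1 := familyC_ne_one (by omega) hMc hgen ha hb haz hbz hab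
    obtain ⟨j, hj⟩ : ∃ j, n - 1 - 3 = j + 1 := ⟨n - 5, by omega⟩
    obtain ⟨v, hv⟩ : ∃ v, v = z ^ 3 ^ j := ⟨_, rfl⟩
    have hv3 : v ^ 3 = z ^ 3 ^ (n - 1 - 3) := by rw [hv, ← pow_mul, ← pow_succ, hj]
    have hzc : ∀ g : M, g * z = z * g := fun g => (Subgroup.mem_center_iff.1 (mem_center_of_gen hgen
      (w := z) (by rintro g (rfl | rfl | rfl); exacts [haz, hbz, rfl])) g)
    have hvc : ∀ g : M, g * v = v * g := fun g => hv ▸ ((show Commute g z from hzc g).pow_right _).eq
    have hab0 : ((a : P) : K) * (b : P) ≠ (b : P) * (a : P) := fun e => by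
      have e' : a * b = b * a := Subtype.ext (Subtype.ext e)
      have h5 : b * z ^ 3 ^ (n - 1 - 3) = b := by rw [← hab, mul_assoc, ← e', inv_mul_cancel_left]
      exact hw1 (mul_eq_left.1 h5)
    have hapK : ((a : P) : K) ^ 3 = 1 := congrArg (fun t : M => ((t : P) : K)) ha
    have hmem : ∀ w : P, (hwM : w ∈ M) → w ^ 3 = 1 → Commute (⟨w, hwM⟩ : M) a → Commute (⟨w, hwM⟩ : M) b →
        w ∈ Subgroup.center P := fun w hwM hw hwa hwb => h.mem_center (h.mem_zpowers_of_commute (a : P).2 (b : P).2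
          w.2 hapK hab0 (congrArg (fun t : P => (t : K)) hw) (congrArg (fun t : M => ((t : P) : K)) hwa.eq)
          (congrArg (fun t : M => ((t : P) : K)) hwb.eq))
    have hv9 : v ^ 3 ^ 2 = 1 := by
      rw [hv, ← pow_mul, ← pow_add, show j + 2 = n - 1 - 2 by omega, hz]
    have hv3c : (v : P) ^ 3 ∈ Subgroup.center P := by
      refine hmem _ (pow_mem v.2 3) ?_ ?_ ?_
      · rw [← pow_mul, ← pow_two, ← Subgroup.coe_pow, hv9]; rfl
      · exact ((show Commute a v from hvc a).symm.pow_left 3)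
      · exact ((show Commute b v from hvc b).symm.pow_left 3)
    have hvU : (v : P) ∈ Subgroup.upperCentralSeries P 2 := by
      rw [show (2 : ℕ) = 1 + 1 from rfl, Subgroup.mem_upperCentralSeries_succ_iff, Subgroup.upperCentralSeries_one]
      intro g
      obtain ⟨v', hv'⟩ : ∃ v' : M, (v' : P) = g * (v : P) * g⁻¹ := ⟨⟨_, hMn.conj_mem _ v.2 g⟩, rfl⟩
      have hv'c : ∀ y : M, y * v' = v' * y := by
        intro y
        obtain ⟨y', hy'⟩ : ∃ y' : M, (y' : P) = g⁻¹ * (y : P) * g :=
          ⟨⟨_, by simpa using hMn.conj_mem _ y.2 g⁻¹⟩, rfl⟩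
        have e : (y' : P) * v = v * y' := congrArg Subtype.val (hvc y')
        refine Subtype.ext ?_
        show (y : P) * v' = v' * y
        rw [hv', show (y : P) = g * y' * g⁻¹ by rw [hy']; group]
        calc g * (y' : P) * g⁻¹ * (g * v * g⁻¹) = g * ((y' : P) * v) * g⁻¹ := by group
          _ = g * ((v : P) * y') * g⁻¹ := by rw [e]
          _ = g * v * g⁻¹ * (g * y' * g⁻¹) := by group
      have hc := hmem ((v' * v⁻¹ : M) : P) (v' * v⁻¹).2 (by
          rw [← Subgroup.coe_pow, (show Commute v' v⁻¹ from (show Commute v' v from hvc v').inv_right).mul_pow,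
            inv_pow, Subgroup.coe_mul, Subgroup.coe_inv, Subgroup.coe_pow, Subgroup.coe_pow, hv', conj_pow,
            Subgroup.mem_center_iff.1 hv3c g, mul_inv_cancel_right, mul_inv_cancel])
        ((show Commute v' a from (hv'c a).symm).mul_left (show Commute v a from (hvc a).symm).inv_left)
        ((show Commute v' b from (hv'c b).symm).mul_left (show Commute v b from (hvc b).symm).inv_left)
      have e : (v : P) * g * (v : P)⁻¹ * g⁻¹ = ((v' * v⁻¹ : M) : P)⁻¹ := by
        rw [Subgroup.coe_mul, Subgroup.coe_inv, hv']; group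
      rw [show ⁅(v : P), g⁆ = ((v' * v⁻¹ : M) : P)⁻¹ by rw [commutatorElement_def]; exact e]
      exact inv_mem hc
    have h9 := exp_ucs_two hM h4 (Solv.RankTwo.prankLE_of_injective P.subtype P.subtype_injective h.rank) hvU
    refine hw1 ?_
    rw [← hv3]
    exact Subtype.ext h9
  · refine (hpair a b z hgen).2 ?_
    rw [show b = a⁻¹ * z * a * z⁻¹ by rw [haz, mul_inv_cancel_right]]
    have ha' : a ∈ Subgroup.closure ({a, z} : Set M) := Subgroup.subset_closure (Or.inl rfl)
    have hz' : z ∈ Subgroup.closure ({a, z} : Set M) := Subgroup.subset_closure (Or.inr rfl)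
    exact mul_mem (mul_mem (mul_mem (inv_mem ha') hz') ha') (inv_mem hz')
  · obtain ⟨T, hT, hgen⟩ := Solv.MaxC.IsMax.two_gen (p := 3) (n := n - 1) (⟨hMc, h2, hne⟩ : Solv.MaxC.IsMax M 3 (n - 1))
    obtain ⟨a, b, hab⟩ := pair_of_finset T hT hgen
    exact twoGen_map M a b hab

/-- Maximal class of even length does not occur. -/
theorem Setting.not_max_even (h : Setting K 3 P x) (hM : Solv.MaxC.IsMax P 3 n) (h4 : 4 ≤ n) (hev : Even n) :
    False := by
  have hW := normTrivial_of_two_gen (p := 3) (by norm_num) hM.isPGroup (fun M hMn hMi => h.two_gen_maximal hM h4 M hMn hMi)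
  obtain ⟨l, hl, hfix⟩ := exists_fixed hM h4 hev ⟨x, h.mem⟩ (by rw [← Subgroup.orderOf_coe]; exact h.order)
    (h.mem_center (Subgroup.mem_zpowers x))
  refine h.false_of_fixed hW l.2 (fun ⟨y, hy, e⟩ => hl (P.subtype_injective e ▸ hy)) fun g hg => ?_
  have hg1 : ∀ y ∈ P, g * y * g⁻¹ ∈ P := fun y hy => (Subgroup.mem_normalizer_iff.1 hg y).1 hy
  have hg2 : ∀ y ∈ P, g⁻¹ * y * g ∈ P := fun y hy => by
    have := (Subgroup.mem_normalizer_iff.1 (inv_mem hg) y).1 hy
    rwa [inv_inv] at this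
  let γ : P ≃* P :=
    { toFun := fun y => ⟨g * y * g⁻¹, hg1 y y.2⟩
      invFun := fun y => ⟨g⁻¹ * y * g, hg2 y y.2⟩
      left_inv := fun y => Subtype.ext (by simp [mul_assoc])
      right_inv := fun y => Subtype.ext (by simp [mul_assoc])
      map_mul' := fun y z => Subtype.ext (by simp [mul_assoc]) }
  exact ⟨_, hfix γ (Subtype.ext (h.fixed g (hg1 x h.mem))), rfl⟩

end Cfsg.Agent.LocalEven.IsolatedSylow
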