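import Cfsg.Agent.Lib.Local.FS.OrderFifth.Transfer
import Cfsg.Agent.Lib.Solv.Extraspecial
import Cfsg.Agent.Lib.Solv.MaxSub

/-!
Norms to maximal subgroups needing two generators are trivial.
-/

set_option autoImplicit false
set_option linter.style.haveILetI false

open scoped commutatorElement

namespace Cfsg.Agent.LocalEven.IsolatedSylow

universe u

variable {R : Type u} [Group R] [Finite R] {p : ℕ} [hp : Fact p.Prime]

/-- `M` is generated by two elements. -/
def TwoGen (M : Subgroup R) : Prop := ∃ a b : R, Subgroup.closure ({a, b} : Set R) = M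

/-- A subgroup with two generators has Frattini index at most `p²`. -/
theorem frattini_index_le (hR : IsPGroup p R) {M : Subgroup R} (h : TwoGen M) :
    (frattini M).index ≤ p ^ 2 := by
  classical
  obtain ⟨a, b, hab⟩ := h
  have ha : a ∈ M := hab ▸ Subgroup.subset_closure (Or.inl rfl)
  have hb : b ∈ M := hab ▸ Subgroup.subset_closure (Or.inr rfl)
  have hM : IsPGroup p M := hR.to_subgroup M
  have htop : Subgroup.closure ({⟨a, ha⟩, ⟨b, hb⟩} : Set M) = ⊤ := by
    apply Subgroup.map_injective M.subtype_injective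
    rw [MonoidHom.map_closure, ← MonoidHom.range_eq_map, Subgroup.range_subtype, Set.image_pair]
    exact hab
  let q := QuotientGroup.mk' (frattini M)
  have hcomm : ∀ x y : M ⧸ frattini M, x * y = y * x := by
    intro x y
    obtain ⟨x, rfl⟩ := QuotientGroup.mk'_surjective _ x
    obtain ⟨y, rfl⟩ := QuotientGroup.mk'_surjective _ y
    rw [← commutatorElement_eq_one_iff_mul_comm, ← map_commutatorElement]
    exact (QuotientGroup.eq_one_iff _).2 (Solv.commutator_le_frattini_pgroup hM (by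
      rw [commutator_def]; exact Subgroup.commutator_mem_commutator (Subgroup.mem_top _) (Subgroup.mem_top _)))
  have hexp : ∀ x : M ⧸ frattini M, x ^ p = 1 := by
    intro x
    obtain ⟨x, rfl⟩ := QuotientGroup.mk'_surjective _ x
    rw [← map_pow]
    exact (QuotientGroup.eq_one_iff _).2 (Solv.pow_mem_frattini hM x)
  obtain ⟨f, hf⟩ : ∃ f : ZMod p × ZMod p → M ⧸ frattini M,
      ∀ v, f v = q ⟨a, ha⟩ ^ v.1.val * q ⟨b, hb⟩ ^ v.2.val := ⟨_, fun _ => rfl⟩
  haveI : NeZero p := ⟨hp.out.ne_zero⟩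
  have hred : ∀ (x : M ⧸ frattini M) (i : ℕ), x ^ ((i : ZMod p)).val = x ^ i := fun x i => by
    rw [ZMod.val_natCast]
    conv_rhs => rw [← Nat.mod_add_div i p, pow_add, pow_mul, hexp, one_pow, mul_one]
  have hsurj : Function.Surjective f := by
    intro x
    obtain ⟨m, rfl⟩ := QuotientGroup.mk'_surjective _ x
    have hm : m ∈ Subgroup.closure ({⟨a, ha⟩, ⟨b, hb⟩} : Set M) := htop ▸ Subgroup.mem_top m
    suffices hex : ∃ i j : ℤ, q m = q ⟨a, ha⟩ ^ i * q ⟨b, hb⟩ ^ j by
      obtain ⟨i, j, he⟩ := hex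
      refine ⟨(((i % p).toNat : ZMod p), ((j % p).toNat : ZMod p)), ?_⟩
      have hz : ∀ (x : M ⧸ frattini M) (i : ℤ), x ^ (i % p).toNat = x ^ i := fun x i => by
        rw [← zpow_natCast, Int.toNat_of_nonneg (Int.emod_nonneg _ (by simp [hp.out.ne_zero]))]
        conv_rhs => rw [← Int.emod_add_mul_ediv i p, zpow_add, zpow_mul, zpow_natCast, hexp, one_zpow, mul_one]
      rw [hf, hred, hred, hz, hz]
      exact he.symm
    induction hm using Subgroup.closure_induction with
    | mem v hv =>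
      rcases hv with rfl | rfl
      · exact ⟨1, 0, by simp⟩
      · exact ⟨0, 1, by simp⟩
    | one => exact ⟨0, 0, by simp⟩
    | mul v w _ _ hv hw =>
      obtain ⟨i, j, hv⟩ := hv
      obtain ⟨i', j', hw⟩ := hw
      refine ⟨i + i', j + j', ?_⟩
      rw [map_mul, hv, hw, zpow_add, zpow_add, mul_assoc, ← mul_assoc (q ⟨b, hb⟩ ^ j),
        hcomm (q ⟨b, hb⟩ ^ j) (q ⟨a, ha⟩ ^ i')]
      group
    | inv v _ hv =>
      obtain ⟨i, j, hv⟩ := hv
      refine ⟨-i, -j, ?_⟩
      rw [map_inv, hv, mul_inv_rev, zpow_neg, zpow_neg, hcomm]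
  rw [Subgroup.index_eq_card]
  refine (Nat.card_le_card_of_surjective f hsurj).trans (le_of_eq ?_)
  rw [Nat.card_prod, Nat.card_zmod, sq]

/-- Conjugation acts on such a subgroup with nilpotency degree two modulo its Frattini subgroup. -/
theorem comm_comm_mem (hR : IsPGroup p R) {M : Subgroup R} [M.Normal] (h : TwoGen M) (u : R) {m : R}
    (hm : m ∈ M) : ⁅u, ⁅u, m⁆⁆ ∈ (frattini M).map M.subtype := by
  haveI := hR.isNilpotent
  obtain ⟨A, hA⟩ : ∃ A : Subgroup R, A = (frattini M).map M.subtype := ⟨_, rfl⟩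
  rw [← hA]
  haveI hAn : A.Normal := hA ▸ inferInstance
  have hAM : A ≤ M := hA ▸ Subgroup.map_subtype_le _
  have hidx : A.relIndex M ≤ p ^ 2 := by
    rw [hA]
    show (((frattini M).map M.subtype).subgroupOf M).index ≤ p ^ 2
    rw [Subgroup.subgroupOf, Subgroup.comap_map_eq_self_of_injective M.subtype_injective]
    exact frattini_index_le hR h
  have h2 : A.relIndex M < p ^ (2 + 1) :=
    hidx.trans_lt (Nat.pow_lt_pow_right hp.out.one_lt (by norm_num))
  have hle := Solv.iterComm_le_of_index hR A M hAM 2 h2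
  have h1 : ⁅u, m⁆⁻¹ ∈ Solv.iterComm M 1 := by
    rw [commutatorElement_inv]
    exact Subgroup.commutator_mem_commutator (show m ∈ Solv.iterComm M 0 from hm) (Subgroup.mem_top u)
  have h2 : ⁅⁅u, m⁆, u⁆ ∈ Solv.iterComm M 2 :=
    Subgroup.commutator_mem_commutator (inv_mem_iff.1 h1) (Subgroup.mem_top u)
  rw [← commutatorElement_inv]
  exact inv_mem (hle h2)

theorem isCoatom_of_index_eq_prime {H : Type*} [Group H] (N : Subgroup H) (h : N.index = p) : IsCoatom N := by
  refine ⟨fun e => ?_, fun L hL => ?_⟩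
  · rw [e, Subgroup.index_top] at h
    exact hp.out.one_lt.ne h
  · have h1 := Subgroup.relIndex_mul_index hL.le
    rw [h] at h1
    rcases hp.out.eq_one_or_self_of_dvd _ (Dvd.intro_left _ h1) with h2 | h2
    · exact Subgroup.index_eq_one.1 h2
    · rw [h2] at h1
      have h3 : N.relIndex L = 1 := (Nat.mul_eq_right hp.out.ne_zero).1 h1
      exact absurd (Subgroup.relIndex_eq_one.1 h3) hL.not_ge

/-- If every normal subgroup of index `p` has two generators, the norms are trivial. -/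
theorem normTrivial_of_two_gen (hp2 : p ≠ 2) (hR : IsPGroup p R)
    (h : ∀ M : Subgroup R, M.Normal → M.index = p → TwoGen M) : Local.FS.NormTrivial p R := by
  intro M hM u μ hi m
  haveI := hM
  have hker : ∀ y : M, y ∈ frattini M → μ y = 1 := by
    intro y hy
    by_contra hne
    have hco : IsCoatom μ.ker := by
      have hidx : μ.ker.index ∣ p := by
        rw [Subgroup.index_ker]
        have := Subgroup.card_subgroup_dvd_card μ.range
        rwa [Nat.card_congr Multiplicative.toAdd, Nat.card_zmod] at this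
      rcases hp.out.eq_one_or_self_of_dvd _ hidx with h1 | h1
      · rw [Subgroup.index_eq_one] at h1
        exact absurd (MonoidHom.mem_ker.1 (h1 ▸ Subgroup.mem_top y)) hne
      · exact isCoatom_of_index_eq_prime μ.ker h1
    exact hne (MonoidHom.mem_ker.1 (frattini_le_coatom hco hy))
  have hc1 : ⁅u, (m : R)⁆ ∈ M := mul_mem (hM.conj_mem _ m.2 u) (inv_mem m.2)
  obtain ⟨c, hc⟩ : ∃ c : M, (c : R) = ⁅u, (m : R)⁆ := ⟨⟨_, hc1⟩, rfl⟩
  obtain ⟨d, hdΦ, hd⟩ := comm_comm_mem hR (h M hM hi) u m.2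
  have hstep : ∀ i : ℕ, μ ⟨u ^ i * c * (u ^ i)⁻¹, hM.conj_mem _ c.2 _⟩ = μ c := by
    intro i
    induction i with
    | zero => exact congrArg μ (Subtype.ext (by simp))
    | succ i ih =>
      have hmem : u ^ i * (d : R) * (u ^ i)⁻¹ ∈ (frattini M).map M.subtype :=
        (inferInstance : ((frattini M).map M.subtype).Normal).conj_mem _ ⟨d, hdΦ, rfl⟩ _
      obtain ⟨d', hd'Φ, hd'⟩ := hmem
      have e : (⟨u ^ (i + 1) * c * (u ^ (i + 1))⁻¹, hM.conj_mem _ c.2 _⟩ : M) =
          d' * ⟨u ^ i * c * (u ^ i)⁻¹, hM.conj_mem _ c.2 _⟩ := Subtype.ext (by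
        show u ^ (i + 1) * (c : R) * (u ^ (i + 1))⁻¹ = (d' : R) * (u ^ i * c * (u ^ i)⁻¹)
        rw [show (d' : R) = M.subtype d' from rfl, hd', show (d : R) = M.subtype d from rfl, hd, hc,
          pow_succ]
        simp only [commutatorElement_def]
        group)
      rw [e, map_mul, hker d' hd'Φ, one_mul, ih]
  have hform : ∀ i : ℕ, μ ⟨u ^ i * m * (u ^ i)⁻¹, hM.conj_mem _ m.2 _⟩ = μ m * μ c ^ i := by
    intro i
    induction i with
    | zero => rw [pow_zero (μ c), mul_one]; exact congrArg μ (Subtype.ext (by simp))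
    | succ i ih =>
      have e : (⟨u ^ (i + 1) * m * (u ^ (i + 1))⁻¹, hM.conj_mem _ m.2 _⟩ : M) =
          ⟨u ^ i * c * (u ^ i)⁻¹, hM.conj_mem _ c.2 _⟩ * ⟨u ^ i * m * (u ^ i)⁻¹, hM.conj_mem _ m.2 _⟩ :=
        Subtype.ext (by
          show u ^ (i + 1) * (m : R) * (u ^ (i + 1))⁻¹ = (u ^ i * c * (u ^ i)⁻¹) * (u ^ i * m * (u ^ i)⁻¹)
          rw [hc, pow_succ]
          simp only [commutatorElement_def]
          group)
      rw [e, map_mul, hstep, ih, pow_succ, mul_left_comm, mul_comm (μ c ^ i)]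
  simp only [hform]
  rw [Finset.prod_mul_distrib, Finset.prod_const, Finset.card_range, Finset.prod_pow_eq_pow_sum,
    Finset.sum_range_id]
  have hexp : ∀ a : Multiplicative (ZMod p), a ^ p = 1 := fun a => by
    apply Multiplicative.toAdd.injective
    simp
  obtain ⟨k, hk⟩ : p ∣ p * (p - 1) / 2 := by
    obtain ⟨j, hj⟩ := hp.out.odd_of_ne_two hp2
    exact ⟨j, by rw [hj]; simp only [Nat.add_sub_cancel]; rw [show (2 * j + 1) * (2 * j) = (2 * j + 1) * j * 2 by ring, Nat.mul_div_cancel _ two_pos]⟩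
  rw [hexp, one_mul, hk, pow_mul, hexp, one_pow]

end Cfsg.Agent.LocalEven.IsolatedSylow
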