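import Cfsg.Agent.Lib.LocalEven.IsolatedRankTwo
import Cfsg.Agent.Lib.LocalEven.IsolatedSylow.Norm
import Cfsg.Agent.Lib.Fusion.Focal
import Cfsg.Agent.Lib.Local.FS.Group

/-!
An isolated element inside a perfect group of rank two: two criteria contradicting perfection.
-/

set_option autoImplicit false
set_option linter.style.haveILetI false

namespace Cfsg.Agent.LocalEven.IsolatedSylow

open Cfsg Cfsg.Agent.Fusion
open scoped commutatorElement

universe u

/-- `x` is an element of order `p` in a Sylow subgroup `P` of a perfect group of `p`-rank at most two,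
fixed by all fusion. -/
structure Setting (K : Type u) [Group K] (p : ℕ) (P : Subgroup K) (x : K) : Prop where
  hp2 : p ≠ 2
  perf : commutator K = ⊤
  rank : Cfsg.PRankLE p 2 K
  syl : SylIn p P ⊤
  order : orderOf x = p
  mem : x ∈ P
  cen : ∀ y ∈ P, y * x = x * y
  fixed : ∀ g : K, g * x * g⁻¹ ∈ P → g * x * g⁻¹ = x

variable {K : Type u} [Group K] [Finite K] {p : ℕ} [hp : Fact p.Prime] {P : Subgroup K} {x : K}

namespace Setting

/-- The focal subgroup is everything. -/
theorem le_focalIn (h : Setting K p P x) : P ≤ focalIn P ⊤ := by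
  rw [← inf_commutator_eq_focalIn_top h.syl, h.perf, inf_top_eq]

/-- An element of order `p` commuting with `a` and with `b`, which does not commute with `a`, is a power of `x`. -/
theorem mem_zpowers_of_commute (h : Setting K p P x) {a b w : K} (ha : a ∈ P) (hb : b ∈ P) (hwP : w ∈ P)
    (hap : a ^ p = 1) (hab : a * b ≠ b * a) (hw : w ^ p = 1) (hwa : Commute w a) (hwb : Commute w b) :
    w ∈ Subgroup.zpowers x := by
  rcases eq_or_ne w 1 with rfl | hw1
  · exact one_mem _
  have ha1 : a ≠ 1 := fun e => hab (by rw [e, one_mul, mul_one])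
  have hxb : Commute x b := (h.cen b hb).symm
  have hna : a ∉ Subgroup.zpowers x := by
    rintro ⟨k, rfl⟩
    exact hab (hxb.zpow_left k).eq
  obtain ⟨i, j, hij⟩ := IsolatedRankTwo.mem_closure_of_rank h.rank (orderOf_eq_prime hap ha1) h.order
    (orderOf_eq_prime hw hw1) (h.cen a ha) hwa.symm (show Commute x w from (h.cen w hwP).symm) hna
  by_cases hi : (p : ℤ) ∣ i
  · refine ⟨j, ?_⟩
    obtain ⟨t, rfl⟩ := hi
    rw [hij, zpow_mul, zpow_natCast, hap, one_zpow, one_mul]
  exfalso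
  obtain ⟨r, s, hrs⟩ := (Nat.prime_iff_prime_int.1 hp.out).irreducible.coprime_iff_not_dvd.2 hi
  have hai : Commute (a ^ i) b := by
    rw [show a ^ i = w * (x ^ j)⁻¹ by rw [hij, mul_inv_cancel_right]]
    exact hwb.mul_left (hxb.zpow_left j).inv_left
  have e : a = (a ^ i) ^ s := by
    calc a = a ^ (r * (p : ℤ) + s * i) := by rw [hrs, zpow_one]
      _ = _ := by rw [zpow_add, mul_comm r, zpow_mul, zpow_natCast, hap, one_zpow, one_mul, mul_comm s, zpow_mul]
  apply hab
  rw [e]
  exact (hai.zpow_left s).eq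

/-- A power map which is a homomorphism of `P` with nontrivial image inside `⟨x⟩` contradicts perfection. -/
theorem power_false (h : Setting K p P x) (q : ℕ) (hq : ∀ y ∈ P, y ^ q ∈ Subgroup.zpowers x)
    (hmul : ∀ a ∈ P, ∀ b ∈ P, (a * b) ^ q = a ^ q * b ^ q) (hne : ∃ y ∈ P, y ^ q ≠ 1) : False := by
  obtain ⟨y, hy, hy1⟩ := hne
  let H : Subgroup K :=
    { carrier := {g | g ∈ P ∧ g ^ q = 1}
      one_mem' := ⟨P.one_mem, one_pow q⟩
      mul_mem' := fun {a b} ha hb => ⟨P.mul_mem ha.1 hb.1, by rw [hmul a ha.1 b hb.1, ha.2, hb.2, one_mul]⟩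
      inv_mem' := fun {a} ha => ⟨P.inv_mem ha.1, by rw [inv_pow, ha.2, inv_one]⟩ }
  have hle : focalIn P ⊤ ≤ H := by
    refine (Subgroup.closure_le _).2 ?_
    rintro _ ⟨v, hv, g, -, hgv, rfl⟩
    refine ⟨P.mul_mem (P.inv_mem hv) hgv, ?_⟩
    rw [hmul _ (P.inv_mem hv) _ hgv, inv_pow, conj_pow]
    obtain ⟨i, hi⟩ := hq v hv
    suffices hfix : g * v ^ q * g⁻¹ = v ^ q by rw [hfix, inv_mul_cancel]
    rcases eq_or_ne (v ^ q) 1 with h1 | h1
    · rw [h1, mul_one, mul_inv_cancel]
    have hxm : g * x * g⁻¹ ∈ P := by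
      have hi' : ¬ (p : ℤ) ∣ i := fun hd => h1 (hi ▸ orderOf_dvd_iff_zpow_eq_one.1 (h.order.symm ▸ hd))
      obtain ⟨r, s, hrs⟩ := (Nat.prime_iff_prime_int.1 hp.out).irreducible.coprime_iff_not_dvd.2 hi'
      have e : x = (v ^ q) ^ s := by
        rw [← hi]
        calc x = x ^ (r * (p : ℤ) + s * i) := by rw [hrs, zpow_one]
          _ = _ := by
            rw [zpow_add, mul_comm r, zpow_mul, zpow_natCast, ← h.order, pow_orderOf_eq_one, one_zpow, one_mul,
              mul_comm s, zpow_mul]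
      rw [e, ← conj_zpow, ← conj_pow]
      exact zpow_mem (pow_mem hgv q) s
    rw [← hi, ← conj_zpow, h.fixed g hxm]
  exact hy1 (hle (h.le_focalIn hy)).2

/-- With trivial norms no element outside the Frattini subgroup is fixed modulo it by the normalizer. -/
theorem false_of_fixed (h : Setting K p P x) (hW : Local.FS.NormTrivial p P) {l : K} (hl : l ∈ P)
    (hlΦ : l ∉ (frattini ↥P).map P.subtype)
    (hfix : ∀ g ∈ Subgroup.normalizer (P : Set K), l⁻¹ * (g * l * g⁻¹) ∈ (frattini ↥P).map P.subtype) : False := by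
  refine Local.FS.Fifth.focal_ne h.syl.isPGroup (Local.FS.group_saturated h.syl) hW hl hlΦ (fun γ hγ => ?_) ?_
  · rw [Local.FS.autGroup_group le_rfl, Local.FS.mem_autInducedBy] at hγ
    obtain ⟨g, -, hg⟩ := hγ
    rw [hg l hl]
    refine hfix g (Local.FS.mem_normalizer_of_conj_mem le_rfl fun y hy => ?_)
    rw [← hg y hy]
    exact Local.FS.av_mem γ hy
  refine le_antisymm ((Subgroup.closure_le _).2 ?_) ?_
  · rintro _ ⟨Q, φ, y, hφ, rfl⟩
    exact P.mul_mem (P.inv_mem (((Cfsg.groupFusionSystem P).le_of_mem hφ).1 y.2))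
      (((Cfsg.groupFusionSystem P).le_of_mem hφ).2 y)
  refine h.le_focalIn.trans ((Subgroup.closure_le _).2 ?_)
  rintro _ ⟨v, hv, g, -, hgv, rfl⟩
  have hm : Local.FS.Map (Cfsg.groupFusionSystem P) (Subgroup.zpowers v) fun y => g * y * g⁻¹ :=
    Local.FS.map_group_iff.2 ⟨Subgroup.zpowers_le.2 hv, fun y hy => by
      obtain ⟨k, rfl⟩ := hy
      rw [← conj_zpow]
      exact zpow_mem hgv k, g, fun _ _ => rfl⟩
  obtain ⟨φ, hφ, he⟩ := hm
  exact Subgroup.subset_closure ⟨_, φ, ⟨v, Subgroup.mem_zpowers v⟩, hφ, by rw [he]⟩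

end Setting

end Cfsg.Agent.LocalEven.IsolatedSylow
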